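import Mathlib.Algebra.Algebra.Operations
import Mathlib.Algebra.Algebra.Bilinear
import Mathlib.LinearAlgebra.Span.Basic
import Mathlib.LinearAlgebra.Dimension.Constructions
import Mathlib.LinearAlgebra.FiniteDimensional.Basic
import Mathlib.FieldTheory.IsAlgClosed.Basic

/-!
# Layers of a nilpotent algebra with a trace form

`J` is a nilpotent subalgebra of an algebra `A` carrying a trace `τ` whose only socle element
killed by `τ` is zero.  `N n` is the annihilator of `J ^ (m - n)` for the form `τ(z w)`, where `m`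
is the Loewy length.  The quotients `J ^ n / N n` form the graded symmetric algebra on top.
-/

set_option autoImplicit false
set_option linter.unusedSectionVars false

namespace H18.Local5

universe u v

variable {k : Type u} [Field k] {A : Type v} [Ring A] [Algebra k A]

/-- A nilpotent algebra with a symmetric form. -/
structure Ctx (k : Type u) [Field k] (A : Type v) [Ring A] [Algebra k A] where
  /-- the algebra -/
  J : Submodule k A
  /-- the trace -/
  τ : A →ₗ[k] k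
  /-- the Loewy length -/
  m : ℕ
  mul_le : J * J ≤ J
  trace : ∀ a b : A, τ (a * b) = τ (b * a)
  ann : ∀ z ∈ J, (∀ b ∈ J, z * b = 0) → τ z = 0 → z = 0
  top : J ^ (m + 1) = ⊥
  ne_bot : J ^ m ≠ ⊥
  pos : 1 ≤ m

namespace Ctx

variable (S : Ctx k A)

theorem pow_succ_le : ∀ n : ℕ, S.J ^ (n + 1) ≤ S.J
  | 0 => le_of_eq (pow_one _)
  | n + 1 => by
    rw [pow_succ]
    exact (mul_le_mul' (pow_succ_le n) le_rfl).trans S.mul_le

theorem pow_le_J {n : ℕ} (h : 1 ≤ n) : S.J ^ n ≤ S.J := by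
  obtain ⟨n, rfl⟩ : ∃ j, n = j + 1 := ⟨n - 1, by omega⟩
  exact S.pow_succ_le n

theorem pow_anti {i j : ℕ} (hi : 1 ≤ i) (hij : i ≤ j) : S.J ^ j ≤ S.J ^ i := by
  rcases eq_or_lt_of_le hij with rfl | h
  · exact le_rfl
  obtain ⟨i, rfl⟩ : ∃ l, i = l + 1 := ⟨i - 1, by omega⟩
  rw [show j = i + (j - i) by omega, pow_add, pow_succ]
  exact mul_le_mul' le_rfl (S.pow_le_J (by omega))

theorem mul_mem_pow {i j : ℕ} {a b : A} (ha : a ∈ S.J ^ i) (hb : b ∈ S.J ^ j) :
    a * b ∈ S.J ^ (i + j) := by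
  rw [pow_add]
  exact Submodule.mul_mem_mul ha hb

theorem mem_one {a : A} (ha : a ∈ S.J) : a ∈ S.J ^ 1 := by rwa [pow_one]

theorem pow_mem {a : A} (ha : a ∈ S.J) : ∀ j : ℕ, a ^ j ∈ S.J ^ j
  | 0 => by rw [pow_zero, pow_zero]; exact Submodule.one_le.1 le_rfl
  | j + 1 => by
    rw [pow_succ, pow_succ]
    exact Submodule.mul_mem_mul (pow_mem ha j) ha

theorem eq_zero_of_lt {j : ℕ} {z : A} (hj : S.m < j) (hz : z ∈ S.J ^ j) : z = 0 := by
  have h := S.pow_anti (Nat.le_add_left 1 S.m) (show S.m + 1 ≤ j by omega) hz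
  rw [S.top, Submodule.mem_bot] at h
  exact h

/-- An element orthogonal to the algebra annihilates it. -/
theorem mul_eq_zero_of_tau {z : A} (hz : z ∈ S.J) (h : ∀ b ∈ S.J, S.τ (z * b) = 0) :
    ∀ b ∈ S.J, z * b = 0 := by
  have key : ∀ d j : ℕ, 1 ≤ j → S.m + 1 ≤ j + d → ∀ w ∈ S.J ^ j, z * w = 0 := by
    intro d
    induction d with
    | zero =>
      intro j _ hd w hw
      rw [S.eq_zero_of_lt (by omega) hw, mul_zero]
    | succ d ih =>
      intro j hj hd w hw
      have hwJ := S.pow_le_J hj hw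
      refine S.ann _ (S.mul_le (Submodule.mul_mem_mul hz hwJ)) (fun b hb => ?_) (h w hwJ)
      rw [mul_assoc]
      exact ih (j + 1) (by omega) (by omega) _ (S.mul_mem_pow hw (S.mem_one hb))
  exact fun b hb => key S.m 1 le_rfl (by omega) b (S.mem_one hb)

/-- The socle is spanned by an element of non-zero trace. -/
theorem exists_socle : ∃ s ∈ S.J ^ S.m, S.τ s ≠ 0 ∧
    ∀ z ∈ S.J, (∀ b ∈ S.J, z * b = 0) → z ∈ Submodule.span k {s} := by
  obtain ⟨s, hs, hs0⟩ := Submodule.exists_mem_ne_zero_of_ne_bot S.ne_bot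
  have hsJ := S.pow_le_J S.pos hs
  have hkill : ∀ b ∈ S.J, s * b = 0 := fun b hb =>
    S.eq_zero_of_lt (Nat.lt_succ_self _) (S.mul_mem_pow hs (S.mem_one hb))
  have hτ : S.τ s ≠ 0 := fun h => hs0 (S.ann s hsJ hkill h)
  refine ⟨s, hs, hτ, fun z hz hzJ => ?_⟩
  have h0 : z - (S.τ z / S.τ s) • s = 0 := by
    refine S.ann _ (Submodule.sub_mem _ hz (Submodule.smul_mem _ _ hsJ)) (fun b hb => ?_) ?_
    · rw [sub_mul, smul_mul_assoc, hzJ b hb, hkill b hb, smul_zero, sub_zero]
    · rw [map_sub, map_smul, smul_eq_mul, div_mul_cancel₀ _ hτ, sub_self]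
  exact Submodule.mem_span_singleton.2 ⟨_, (sub_eq_zero.1 h0).symm⟩

/-- The annihilator of `J ^ (m - n)`. -/
def N (n : ℕ) : Submodule k A where
  carrier := {z | ∀ w ∈ S.J ^ (S.m - n), S.τ (z * w) = 0}
  add_mem' := fun {a b} ha hb w hw => by rw [add_mul, map_add, ha w hw, hb w hw, add_zero]
  zero_mem' := fun w _ => by rw [zero_mul, map_zero]
  smul_mem' := fun c z hz w hw => by rw [smul_mul_assoc, map_smul, hz w hw, smul_zero]

theorem mem_N {n : ℕ} {z : A} : z ∈ S.N n ↔ ∀ w ∈ S.J ^ (S.m - n), S.τ (z * w) = 0 := Iff.rfl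

theorem pow_le_N {n j : ℕ} (h : n < j) : S.J ^ j ≤ S.N n := fun z hz w hw => by
  rw [S.eq_zero_of_lt (by omega) (S.mul_mem_pow hz hw), map_zero]

theorem N_mul {n : ℕ} (hn : n < S.m) {z b : A} (hz : z ∈ S.N n) (hb : b ∈ S.J) :
    z * b ∈ S.N (n + 1) := fun w hw => by
  rw [mul_assoc]
  refine hz _ ?_
  have := S.mul_mem_pow (S.mem_one hb) hw
  rwa [show 1 + (S.m - (n + 1)) = S.m - n by omega] at this

theorem mul_N {n : ℕ} (hn : n < S.m) {z b : A} (hz : z ∈ S.N n) (hb : b ∈ S.J) :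
    b * z ∈ S.N (n + 1) := fun w hw => by
  rw [mul_assoc, S.trace, mul_assoc]
  refine hz _ ?_
  have := S.mul_mem_pow hw (S.mem_one hb)
  rwa [show S.m - (n + 1) + 1 = S.m - n by omega] at this

theorem N_mul_pow {n j : ℕ} (hn : n + j ≤ S.m) {z b : A} (hz : z ∈ S.N n) (hb : b ∈ S.J ^ j) :
    z * b ∈ S.N (n + j) := fun w hw => by
  rw [mul_assoc]
  refine hz _ ?_
  have := S.mul_mem_pow hb hw
  rwa [show j + (S.m - (n + j)) = S.m - n by omega] at this

theorem mul_N_pow {n j : ℕ} (hn : n + j ≤ S.m) {z b : A} (hz : z ∈ S.N n) (hb : b ∈ S.J ^ j) :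
    b * z ∈ S.N (n + j) := fun w hw => by
  rw [mul_assoc, S.trace, mul_assoc]
  refine hz _ ?_
  have := S.mul_mem_pow hw hb
  rwa [show S.m - (n + j) + j = S.m - n by omega] at this

theorem tau_N {n : ℕ} {z w : A} (hz : z ∈ S.N n) (hw : w ∈ S.J ^ (S.m - n)) :
    S.τ (z * w) = 0 ∧ S.τ (w * z) = 0 := ⟨hz w hw, by rw [S.trace]; exact hz w hw⟩

/-- The pairing is non-degenerate. -/
theorem mem_N_of_mul {n : ℕ} (hn : n < S.m) {z : A} (h : ∀ b ∈ S.J, b * z ∈ S.N (n + 1)) :
    z ∈ S.N n := fun w hw => by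
  rw [show S.m - n = S.m - (n + 1) + 1 by omega, pow_succ] at hw
  refine Submodule.mul_induction_on hw (fun v hv b hb => ?_) fun a b ha hb => ?_
  · rw [← mul_assoc, S.trace, ← mul_assoc]
    exact h b hb v hv
  · rw [mul_add, map_add, ha, hb, add_zero]

theorem not_pow_le_N {n : ℕ} (hn : n ≤ S.m) (h : S.J ^ n ≤ S.N n) : False := by
  obtain ⟨s, hs, hτ, -⟩ := S.exists_socle
  apply hτ
  rw [show S.m = n + (S.m - n) by omega, pow_add] at hs
  refine Submodule.mul_induction_on hs (fun u hu w hw => h hu w hw) fun a b ha hb => ?_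
  rw [map_add, ha, hb, add_zero]

/-- The vectors span the layer `n`. -/
def Spans (n : ℕ) {q : ℕ} (v : Fin q → A) : Prop :=
  S.J ^ n ≤ Submodule.span k (Set.range v) ⊔ S.N n

/-- The vectors are independent in the layer `n`. -/
def Indep (n : ℕ) {r : ℕ} (e : Fin r → A) : Prop :=
  ∀ c : Fin r → k, ∑ i, c i • e i ∈ S.N n → c = 0

theorem spans_iff {n q : ℕ} {v : Fin q → A} :
    S.Spans n v ↔ ∀ z ∈ S.J ^ n, ∃ c : Fin q → k, z - ∑ i, c i • v i ∈ S.N n := by
  constructor
  · intro h z hz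
    obtain ⟨a, ha, b, hb, rfl⟩ := Submodule.mem_sup.1 (h hz)
    obtain ⟨c, rfl⟩ := (Submodule.mem_span_range_iff_exists_fun k).1 ha
    exact ⟨c, by simpa using hb⟩
  · intro h z hz
    obtain ⟨c, hc⟩ := h z hz
    rw [← add_sub_cancel (∑ i, c i • v i) z]
    exact Submodule.add_mem_sup
      ((Submodule.mem_span_range_iff_exists_fun k).2 ⟨c, rfl⟩) hc

/-- Fewer vectors cannot span below independent ones. -/
theorem not_spans_of_indep {n r q : ℕ} {e : Fin r → A} {v : Fin q → A} (he : S.Indep n e)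
    (hmem : ∀ i, e i ∈ S.J ^ n) (hqr : q < r) : ¬ S.Spans n v := by
  intro hv
  choose c hc using fun i => (S.spans_iff).1 hv (e i) (hmem i)
  have hdep : ¬ LinearIndependent k c := fun hli => by
    have := hli.fintype_card_le_finrank
    rw [Fintype.card_fin, Module.finrank_fin_fun] at this
    omega
  obtain ⟨g, hg, i, hgi⟩ := Fintype.not_linearIndependent_iff.1 hdep
  refine hgi (congrFun (he g ?_) i)
  have hsum : ∑ i, g i • ∑ j, c i j • v j = 0 := by
    simp only [Finset.smul_sum, smul_smul]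
    rw [Finset.sum_comm]
    refine Finset.sum_eq_zero fun j _ => ?_
    rw [← Finset.sum_smul]
    have := congrFun hg j
    simp only [Finset.sum_apply, Pi.smul_apply, smul_eq_mul, Pi.zero_apply] at this
    rw [this, zero_smul]
  have h2 : ∑ i, g i • (e i - ∑ j, c i j • v j) ∈ S.N n :=
    Submodule.sum_mem _ fun i _ => Submodule.smul_mem _ _ (hc i)
  simp only [smul_sub, Finset.sum_sub_distrib, hsum, sub_zero] at h2
  exact h2

/-- Dependent spanning vectors can be shortened. -/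
theorem exists_drop {n r : ℕ} {e : Fin (r + 1) → A} (he : S.Spans n e) {c : Fin (r + 1) → k}
    (hc : ∑ i, c i • e i ∈ S.N n) {i : Fin (r + 1)} (hi : c i ≠ 0) :
    S.Spans n fun j => e (i.succAbove j) := by
  refine he.trans (sup_le ?_ le_sup_right)
  rw [Submodule.span_le]
  rintro _ ⟨j, rfl⟩
  rcases Fin.eq_self_or_eq_succAbove i j with hji | ⟨j', hj'⟩
  · rw [hji, SetLike.mem_coe]
    have hd : e i = -((c i)⁻¹ • ∑ j', c (i.succAbove j') • e (i.succAbove j')) +
        (c i)⁻¹ • ∑ l, c l • e l := by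
      rw [Fin.sum_univ_succAbove _ i, smul_add, smul_smul, inv_mul_cancel₀ hi, one_smul]
      abel
    rw [hd]
    exact Submodule.add_mem_sup (Submodule.neg_mem _ (Submodule.smul_mem _ _
      (Submodule.sum_mem _ fun j' _ => Submodule.smul_mem _ _
        (Submodule.subset_span ⟨j', rfl⟩)))) (Submodule.smul_mem _ _ hc)
  · exact Submodule.mem_sup_left (Submodule.subset_span ⟨j', by rw [hj']⟩)

/-- Independence of spanning vectors when fewer never span. -/
theorem indep_of_spans {n r : ℕ} {e : Fin (r + 1) → A} (he : S.Spans n e)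
    (h : ∀ v : Fin r → A, ¬ S.Spans n v) : S.Indep n e := by
  intro c hc
  by_contra hne
  obtain ⟨i, hi⟩ := Function.ne_iff.1 hne
  exact h _ (S.exists_drop he hc hi)

/-- Left multiplication by `a` is onto the layer `n + 1`. -/
def Reg (a : A) (n : ℕ) : Prop :=
  S.J ^ (n + 1) ≤ (S.J ^ n).map (LinearMap.mulLeft k a) ⊔ S.N (n + 1)

theorem reg_succ {a : A} {n : ℕ} (hn : n + 1 < S.m) (h : S.Reg a n) : S.Reg a (n + 1) := by
  rw [Reg, pow_succ S.J (n + 1)]
  refine Submodule.mul_le.2 fun z hz b hb => ?_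
  obtain ⟨_, ⟨u, hu, rfl⟩, r, hr, rfl⟩ := Submodule.mem_sup.1 (h hz)
  rw [add_mul, LinearMap.mulLeft_apply, mul_assoc]
  exact Submodule.add_mem_sup ⟨u * b, S.mul_mem_pow hu (S.mem_one hb), rfl⟩ (S.N_mul hn hr hb)

theorem reg_le {a : A} {n : ℕ} (h : S.Reg a n) : ∀ j : ℕ, n ≤ j → j < S.m → S.Reg a j := by
  intro j hnj
  induction j, hnj using Nat.le_induction with
  | base => exact fun _ => h
  | succ j _ ih => exact fun hj => S.reg_succ hj (ih (by omega))

theorem spans_succ {a : A} (ha : a ∈ S.J) {n q : ℕ} (hn : n < S.m) (h : S.Reg a n) {v : Fin q → A}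
    (hv : S.Spans n v) : S.Spans (n + 1) fun i => a * v i := by
  intro z hz
  obtain ⟨_, ⟨u, hu, rfl⟩, r, hr, rfl⟩ := Submodule.mem_sup.1 (h hz)
  obtain ⟨c, hc⟩ := (S.spans_iff).1 hv u hu
  have e1 : a * u + r = ∑ i, c i • (a * v i) + (a * (u - ∑ i, c i • v i) + r) := by
    simp only [mul_sub, Finset.mul_sum, mul_smul_comm]
    abel
  rw [LinearMap.mulLeft_apply, e1]
  exact Submodule.add_mem_sup ((Submodule.mem_span_range_iff_exists_fun k).2 ⟨c, rfl⟩)
    (Submodule.add_mem _ (S.mul_N hn hc ha) hr)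

/-- Few vectors cannot span the layer below the top. -/
theorem not_spans_top {r q : ℕ} {e : Fin r → A} {v : Fin q → A} (he : S.Indep 1 e)
    (hmem : ∀ i, e i ∈ S.J) (hqr : q < r) : ¬ S.Spans (S.m - 1) v := by
  intro hv
  let c : Fin r → Fin q → k := fun i j => S.τ (e i * v j)
  have hdep : ¬ LinearIndependent k c := fun hli => by
    have := hli.fintype_card_le_finrank
    rw [Fintype.card_fin, Module.finrank_fin_fun] at this
    omega
  obtain ⟨g, hg, i, hgi⟩ := Fintype.not_linearIndependent_iff.1 hdep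
  refine hgi (congrFun (he g fun w hw => ?_) i)
  obtain ⟨d, hd⟩ := (S.spans_iff).1 hv w hw
  have hxJ : ∑ i, g i • e i ∈ S.J ^ (S.m - (S.m - 1)) := by
    rw [show S.m - (S.m - 1) = 1 by have := S.pos; omega, pow_one]
    exact Submodule.sum_mem _ fun i _ => Submodule.smul_mem _ _ (hmem i)
  have h0 : ∀ j, S.τ ((∑ i, g i • e i) * v j) = 0 := fun j => by
    have := congrFun hg j
    simpa [c, Finset.sum_mul, map_sum] using this
  rw [← add_sub_cancel (∑ j, d j • v j) w, mul_add, map_add, (S.tau_N hd hxJ).2, add_zero,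
    Finset.mul_sum, map_sum]
  exact Finset.sum_eq_zero fun j _ => by rw [mul_smul_comm, map_smul, h0, smul_zero]

/-- Few vectors cannot span a layer above a regular element. -/
theorem not_spans_reg {r q : ℕ} {e : Fin r → A} (he : S.Indep 1 e) (hmem : ∀ i, e i ∈ S.J)
    (hqr : q < r) {a : A} (ha : a ∈ S.J) {n j : ℕ} (hreg : S.Reg a n) (hnj : n ≤ j)
    (hj : j + 1 ≤ S.m) (v : Fin q → A) : ¬ S.Spans j v := by
  suffices ∀ d j : ℕ, n ≤ j → j + 1 + d = S.m → ∀ v : Fin q → A, ¬ S.Spans j v from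
    this (S.m - (j + 1)) j hnj (by omega) v
  intro d
  induction d with
  | zero =>
    intro j _ hj v
    rw [show j = S.m - 1 by omega]
    exact S.not_spans_top he hmem hqr
  | succ d ih =>
    intro j hnj hj v hv
    exact ih (j + 1) (by omega) (by omega) _
      (S.spans_succ ha (by omega) (S.reg_le hreg j hnj (by omega)) hv)

/-- No layer is spanned by one element. -/
theorem not_spans_one {r : ℕ} {e : Fin r → A} (he : S.Indep 1 e) (hmem : ∀ i, e i ∈ S.J)
    (hr : 2 ≤ r) {n : ℕ} (hn1 : 1 ≤ n) (hn : n + 1 ≤ S.m) (w : A) : ¬ S.Spans n ![w] := by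
  intro hw
  obtain ⟨n, rfl⟩ : ∃ l, n = l + 1 := ⟨n - 1, by omega⟩
  rcases n with _ | n
  · exact S.not_spans_of_indep he (fun i => S.mem_one (hmem i)) (by omega) hw
  obtain ⟨a, ha, u, hu, hau⟩ : ∃ a ∈ S.J, ∃ u ∈ S.J ^ (n + 1), a * u ∉ S.N (n + 1 + 1) := by
    by_contra h
    push Not at h
    refine S.not_pow_le_N (n := n + 1 + 1) (by omega) ?_
    rw [pow_succ']
    exact Submodule.mul_le.2 h
  have hauJ : a * u ∈ S.J ^ (n + 1 + 1) := by rw [pow_succ']; exact Submodule.mul_mem_mul ha hu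
  obtain ⟨c, hc⟩ := (S.spans_iff).1 hw _ hauJ
  simp only [Fin.sum_univ_one, Matrix.cons_val_fin_one] at hc
  have hc0 : c 0 ≠ 0 := fun h0 => hau (by simpa [h0] using hc)
  have hw' : w = a * ((c 0)⁻¹ • u) + -((c 0)⁻¹ • (a * u - c 0 • w)) := by
    rw [smul_sub, smul_smul, inv_mul_cancel₀ hc0, one_smul, mul_smul_comm]
    abel
  refine S.not_spans_reg he hmem (show 1 < r by omega) ha (n := n + 1) (j := n + 1 + 1) ?_
    (by omega) hn _ hw
  intro z hz
  obtain ⟨d, hd⟩ := (S.spans_iff).1 hw z hz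
  simp only [Fin.sum_univ_one, Matrix.cons_val_fin_one] at hd
  have hz' : z = a * (d 0 • (c 0)⁻¹ • u) +
      (d 0 • -((c 0)⁻¹ • (a * u - c 0 • w)) + (z - d 0 • w)) := by
    rw [mul_smul_comm, ← add_assoc, ← smul_add, ← hw']
    abel
  rw [hz']
  exact Submodule.add_mem_sup ⟨_, Submodule.smul_mem _ _ (Submodule.smul_mem _ _ hu), rfl⟩
    (Submodule.add_mem _ (Submodule.smul_mem _ _ (Submodule.neg_mem _
      (Submodule.smul_mem _ _ hc))) hd)

/-- Coordinates in a layer. -/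
theorem exists_coord {n r : ℕ} {v : Fin r → A} (hi : S.Indep n v) :
    ∃ c : A →ₗ[k] (Fin r → k), (∀ z ∈ S.N n, c z = 0) ∧
      (∀ d : Fin r → k, c (∑ i, d i • v i) = d) ∧
      (S.Spans n v → ∀ z ∈ S.J ^ n, z - ∑ i, c z i • v i ∈ S.N n) := by
  let f : (Fin r → k) →ₗ[k] A ⧸ S.N n := (S.N n).mkQ.comp (Fintype.linearCombination k v)
  have hf : LinearMap.ker f = ⊥ := by
    rw [LinearMap.ker_eq_bot']
    intro d hd
    refine hi d ((Submodule.Quotient.mk_eq_zero _).1 ?_)
    rw [← Submodule.mkQ_apply, ← hd]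
    simp only [f, LinearMap.comp_apply, Fintype.linearCombination_apply]
  obtain ⟨g, hg⟩ := f.exists_leftInverse_of_injective hf
  have hgf : ∀ d, g (f d) = d := fun d => LinearMap.congr_fun hg d
  have hzero : ∀ z ∈ S.N n, g ((S.N n).mkQ z) = 0 := fun z hz => by
    rw [Submodule.mkQ_apply, (Submodule.Quotient.mk_eq_zero _).2 hz, map_zero]
  have hrep : ∀ d : Fin r → k, g ((S.N n).mkQ (∑ i, d i • v i)) = d := fun d => by
    have h := hgf d
    simpa only [f, LinearMap.comp_apply, Fintype.linearCombination_apply] using h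
  refine ⟨g.comp (S.N n).mkQ, hzero, hrep, fun hs z hz => ?_⟩
  obtain ⟨d, hd⟩ := (S.spans_iff).1 hs z hz
  have h1 : g ((S.N n).mkQ z) = d := by
    have h2 := hzero _ hd
    rw [map_sub, map_sub, hrep d, sub_eq_zero] at h2
    exact h2
  show z - ∑ i, g ((S.N n).mkQ z) i • v i ∈ S.N n
  rw [h1]
  exact hd

end Ctx

end H18.Local5
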