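import Cfsg.Agent.H19.RankBound
import Cfsg.Agent.H19.BlockBound

/-!
# The rank of a block with a central element of order `p`
-/

set_option autoImplicit false
set_option linter.unusedSectionVars false
set_option linter.style.haveILetI false

open Cfsg Finset
open scoped ComplexConjugate

namespace H18.Local5

universe u

variable {K : Type u} [Group K] [Fintype K] {p : ℕ} [hp : Fact p.Prime] {M : Ideal AlgInt}
  [hMp : M.IsPrime] {b : Set (IrrCharacter K)} {z : K}

/-- The rank is less than the number of members trivial at `z`. -/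
theorem blockRank_lt_card_triv (hM : IsPModular p M) (hb : IsPBlock M b)
    (hz : z ∈ Subgroup.center K) (hzp : orderOf z = p) {d : ℕ} (hd1 : 1 ≤ d)
    (hd : blockDefect p b = d + 1) :
    blockRank p b < (H19.CentralPrime.triv b z).card := by
  classical
  -- a member of height zero trivial at `z`
  set Z := Subgroup.zpowers z with hZ
  have hZc : Z ≤ Subgroup.center K := Subgroup.zpowers_le.2 hz
  haveI : Z.Normal := ⟨fun w hw g => by
    rw [Subgroup.mem_center_iff.1 (hZc hw) g, mul_inv_cancel_right]; exact hw⟩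
  have hZp : IsPGroup p Z := IsPGroup.of_card (n := 1) (by rw [Nat.card_zpowers, hzp, pow_one])
  haveI : Fintype (K ⧸ Z) := Fintype.ofFinite _
  obtain ⟨Bbar, hBb, hsub, hdef⟩ := H21.exists_quotient_block Z hM hZp hb
  obtain ⟨Dbar, hDbar⟩ := H20.exists_defectGroup hM hBb
  obtain ⟨P, hP, hPD⟩ := (hdef Dbar).1 hDbar
  have hZP : Z ≤ P := H20.normal_le_defectGroup hM hb hZp hP
  obtain ⟨θb, hθb, hθe⟩ := H22.exists_height_zero (p := p) (H20.block_nonempty hBb)
  set θ := H21.inflate Z θb
  have hθ : θ ∈ b := hsub θb hθb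
  have hdeg : charDegree (θ : K → ℂ) = charDegree (θb : K ⧸ Z → ℂ) := rfl
  have hθh : blockHeight p b (θ : K → ℂ) = 0 := by
    have h1 := H22.blockDefect_add_blockExp (p := p) hθb
    have h2 := H22.blockDefect_add_blockExp (p := p) hθ
    have h3 := H22.blockHeight_add_blockExp (p := p) hθ
    have h4 := H20.card_defectGroup hM hBb hDbar
    have h5 := H20.card_defectGroup hM hb hP
    have h6 : Nat.card P = p * Nat.card Dbar := by
      refine Nat.eq_of_mul_eq_mul_right (Nat.pos_of_ne_zero P.index_ne_zero_of_finite) ?_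
      have e1 := Subgroup.card_mul_index (P.map (QuotientGroup.mk' Z))
      rw [Subgroup.index_map_eq _ (QuotientGroup.mk'_surjective Z) (by
        rw [QuotientGroup.ker_mk']; exact hZP), ← hPD] at e1
      have e2 := Subgroup.card_mul_index Z
      rw [Subgroup.index_eq_card Z, Nat.card_zpowers, hzp] at e2
      rw [Subgroup.card_mul_index, ← e2, ← e1, mul_assoc]
    rw [h4, h5, ← pow_succ'] at h6
    have h7 := Nat.pow_right_injective hp.out.two_le h6
    have h8 : (Nat.card K).factorization p = 1 + (Nat.card (K ⧸ Z)).factorization p := by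
      have e2 := Subgroup.card_mul_index Z
      rw [Subgroup.index_eq_card Z, Nat.card_zpowers, hzp] at e2
      rw [← e2, Nat.factorization_mul hp.out.ne_zero Nat.card_pos.ne', Finsupp.add_apply,
        hp.out.factorization_self]
    rw [hdeg, hθe] at h3
    omega
  have hθt : θ ∈ H19.CentralPrime.triv b z := H19.CentralPrime.mem_triv.2 ⟨hθ, by
    rw [H21.inflate_apply, H21.inflate_apply,
      (QuotientGroup.eq_one_iff z).2 (Subgroup.mem_zpowers z), QuotientGroup.mk_one]⟩
  -- the diagonal of the form
  obtain ⟨zm, hzm, hmat⟩ := H22.exists_isDeltaMatrix (p := p) hM hb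
  have hle : ∀ η ∈ H19.CentralPrime.triv b z, zm η η ≤ (p : ℤ) ^ d := by
    intro η hη
    have h1 := H19.CentralPrime.sum_triv_matrix hM hb hz hzp hzm hd η η
      (H19.CentralPrime.mem_triv.1 hη).1
    have h2 : zm η η * zm η η ≤
        ∑ q ∈ H19.CentralPrime.triv b z, zm η q * zm q η := by
      refine single_le_sum (f := fun q => zm η q * zm q η) (fun q hq => ?_) hη
      rw [hmat.symm q (H19.CentralPrime.mem_triv.1 hq).1 η (H19.CentralPrime.mem_triv.1 hη).1]
      exact mul_self_nonneg _
    rw [h1] at h2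
    by_contra hlt
    have hpos : (0 : ℤ) ≤ (p : ℤ) ^ d := by positivity
    nlinarith
  have hlt : zm θ θ < (p : ℤ) ^ d := lt_of_le_of_ne (hle θ hθt) fun he =>
    hmat.exact_zero θ hθ θ hθ hθh (by
      rw [he, hθh, zero_add]
      exact pow_dvd_pow _ hd1)
  have hsum := sum_lt_sum hle ⟨θ, hθt, hlt⟩
  rw [H19.CentralPrime.sum_triv_diag hM hb hz hzp hzm hd, sum_const, nsmul_eq_mul] at hsum
  have hpos : (0 : ℤ) < (p : ℤ) ^ d := by
    have := hp.out.pos
    positivity
  have h4 : (blockRank p b : ℤ) < ((H19.CentralPrime.triv b z).card : ℤ) := by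
    refine lt_of_mul_lt_mul_left ?_ hpos.le
    linarith
  exact_mod_cast h4

/-- Defect three with a central involution: at most three irreducible Brauer characters. -/
theorem blockRank_le_three (hM : IsPModular p M) (hb : IsPBlock M b)
    (hz : z ∈ Subgroup.center K) (hzp : orderOf z = p) (hp2 : p = 2)
    (hd : blockDefect p b = 3) : blockRank p b ≤ 3 := by
  obtain ⟨Z, hZn, hZf, Bbar, hBb, hdb, hcard⟩ :=
    H19.CentralPrime.exists_quotient hM hb hz hzp (d := 2) hd
  have h1 := H19.BlockBound.natCard_le hM _ _ Bbar hBb rfl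
  rw [if_pos (by omega), hdb, hp2] at h1
  have h2 := blockRank_lt_card_triv hM hb hz hzp (d := 2) (by omega) hd
  omega

end H18.Local5
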