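import Cfsg.Agent.H18.Local5.Main
import Cfsg.Agent.H18.Local5.BlockRank
import Cfsg.Agent.H20.SmallBlocks
import Cfsg.Agent.H19.Watanabe

/-!
# Blocks with one Brauer character and five ordinary characters
-/

set_option autoImplicit false
set_option linter.unusedSectionVars false
set_option linter.style.haveILetI false

open Cfsg Finset
open scoped MonoidAlgebra

namespace H18.Local5

universe u

variable {G : Type u} [Group G] [Fintype G] {M : Ideal AlgInt} [hMp : M.IsPrime] {p : ℕ}
  [hp : Fact p.Prime]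

/-- The defect group has order at most eight. -/
theorem card_defect_le_eight (hM : IsPModular p M) {B : Set (IrrCharacter G)} (hB : IsPBlock M B)
    {D : Subgroup G} (hD : IsDefectGroup p M B D) (hl : blockRank p B = 1)
    (hk : Nat.card B = 5) : Nat.card D ≤ 8 := by
  classical
  haveI := H23.isAlgClosed_k hM.2.1
  obtain ⟨i, hi, hiB, ⟨c, hc, hdim⟩, n, x, y, hgen⟩ := H20.BasicAlg.exists_generator hM hB hD hl
  have hcod := H20.BasicAlg.finrank_le_comm_add hB hi.idem hiB hgen
  suffices h8 : Module.finrank (H20.k M) (H20.LocalAlg.corner (H20.k M) i) ≤ 8 by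
    rw [hdim] at h8
    exact (Nat.le_mul_of_pos_left _ (by positivity)).trans h8
  by_cases hbot : H20.LocalAlg.comm (H20.k M) i = ⊥
  · rw [hbot, finrank_bot, zero_add] at hcod
    omega
  set J := H20.LocalAlg.rad (k := H20.k M) hi with hJ
  have hex : ∃ m : ℕ, J ^ (m + 1) = ⊥ := H20.LocalAlg.exists_pow_eq_bot (k := H20.k M) hi
  have hJne : J ≠ ⊥ := fun h => hbot (le_bot_iff.1 (h ▸ H20.LocalAlg.comm_le_rad hi))
  have hpos : 1 ≤ Nat.find hex := by
    by_contra h
    have h0 : Nat.find hex = 0 := by omega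
    have := Nat.find_spec hex
    rw [h0, zero_add, pow_one] at this
    exact hJne this
  let S : Ctx (H20.k M) (H20.k M)[G] :=
    { J := J
      τ := H20.SmallBlocks.tau
      m := Nat.find hex
      mul_le := Submodule.mul_le.2 fun a ha b hb => H20.LocalAlg.mul_mem_rad hi ha hb.1
      trace := H20.SmallBlocks.tau_comm
      ann := fun z hz hzJ hτz => by
        by_contra hz0
        obtain ⟨g, hg⟩ : ∃ g, z.coeff g ≠ 0 := by
          by_contra h
          push Not at h
          exact hz0 (by ext g; simp [h g])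
        obtain ⟨h1, h2⟩ := (H20.LocalAlg.mem_corner hi.idem).1 hz.1
        set w := i * MonoidAlgebra.single g⁻¹ (1 : H20.k M) * i
        have hw : w ∈ H20.LocalAlg.corner (H20.k M) i := ⟨_, rfl⟩
        obtain ⟨t, w', hw', he⟩ := H20.LocalAlg.exists_scalar_add hi hw
        apply hg
        have h3 : H20.SmallBlocks.tau (z * w) = (0 : H20.k M) := by
          rw [he, mul_add, hzJ w' hw', add_zero, mul_smul_comm, h2, map_smul, hτz, smul_zero]
        rw [show z * w = z * i * MonoidAlgebra.single g⁻¹ (1 : H20.k M) * i by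
            simp only [w, mul_assoc], h2, H20.SmallBlocks.tau_comm, ← mul_assoc, h1] at h3
        have h4 : (z * MonoidAlgebra.single g⁻¹ (1 : H20.k M)).coeff 1 = 0 := h3
        rwa [H20.coeff_mul_single_one, inv_inv, one_mul] at h4
      top := Nat.find_spec hex
      ne_bot := fun h => by
        obtain ⟨m, hm⟩ : ∃ m, Nat.find hex = m + 1 := ⟨Nat.find hex - 1, by omega⟩
        exact Nat.find_min hex (show m < Nat.find hex by omega) (hm ▸ h)
      pos := hpos }
  have hS : S.comm = H20.LocalAlg.comm (H20.k M) i := by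
    refine le_antisymm (Submodule.span_le.2 ?_) (Submodule.span_le.2 ?_)
    · rintro _ ⟨a, ha, b, hb, rfl⟩
      exact H20.LocalAlg.bracket_mem_comm ha.1 hb.1
    · rintro _ ⟨a, ha, b, hb, rfl⟩
      obtain ⟨a', ha', b', hb', he⟩ := H20.LocalAlg.exists_bracket hi ha hb
      rw [he]
      exact Submodule.subset_span ⟨a', ha', b', hb', rfl⟩
  have hc1 := H20.LocalAlg.finrank_corner (k := H20.k M) hi
  rw [hk] at hcod
  have h7 := S.finrank_le_seven (by
    rw [hS]
    show Module.finrank (H20.k M) J ≤ _
    rw [← hJ] at hc1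
    omega) (hS.symm ▸ hbot)
  change Module.finrank (H20.k M) J ≤ 7 at h7
  rw [← hJ] at hc1
  omega

section Abelian

variable [CharP (H20.k M) p] [IsAlgClosed (H20.k M)] {B : Set (IrrCharacter G)} {P : Subgroup G}

/-- An element of odd order of the stabiliser fixing two involutory directions centralises. -/
theorem mem_centralizer_of_two (hab : ∀ a ∈ P, ∀ b ∈ P, a * b = b * a) (h8 : Nat.card P = 8)
    {g : G} (hgP : ∀ a ∈ P, g * a * g⁻¹ ∈ P) {n : ℕ} (hn : Odd n)
    (hgn : g ^ n ∈ Subgroup.centralizer (P : Set G)) {x u : G} (hx : x ∈ P) (hu : u ∈ P)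
    (hx1 : x ≠ 1) (hu1 : u ≠ 1) (hxu : x ≠ u) (hgx : g * x * g⁻¹ = x) (hgu : g * u * g⁻¹ = u) :
    g ∈ Subgroup.centralizer (P : Set G) := by
  classical
  letI : Fintype P := Fintype.ofFinite _
  let H : Subgroup P :=
    { carrier := {v | g * (v : G) * g⁻¹ = v}
      one_mem' := by simp
      mul_mem' := fun {a b} ha hb => by
        show g * ((a : G) * b) * g⁻¹ = (a : G) * b
        rw [show g * ((a : G) * b) * g⁻¹ = g * a * g⁻¹ * (g * b * g⁻¹) by group,
          show g * (a : G) * g⁻¹ = a from ha, show g * (b : G) * g⁻¹ = b from hb]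
      inv_mem' := fun {a} ha => by
        show g * (a : G)⁻¹ * g⁻¹ = (a : G)⁻¹
        rw [show g * (a : G)⁻¹ * g⁻¹ = (g * a * g⁻¹)⁻¹ by group,
          show g * (a : G) * g⁻¹ = a from ha] }
  have h3 : 3 ≤ Nat.card H := by
    have hs : ({(1 : H), ⟨⟨x, hx⟩, hgx⟩, ⟨⟨u, hu⟩, hgu⟩} : Finset H).card = 3 := by
      rw [card_insert_of_notMem (by
          simp only [mem_insert, mem_singleton, Subtype.ext_iff, Subgroup.coe_one, not_or]
          exact ⟨Ne.symm hx1, Ne.symm hu1⟩),
        card_pair (fun he => hxu (congrArg (fun v : H => ((v : P) : G)) he))]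
    rw [Nat.card_eq_fintype_card, ← hs]
    exact card_le_univ _
  have hdvd := Subgroup.card_subgroup_dvd_card H
  have hmul := Subgroup.card_mul_index H
  rw [h8] at hdvd hmul
  obtain ⟨j, hj, hHj⟩ := (Nat.dvd_prime_pow Nat.prime_two).1
    (show Nat.card H ∣ 2 ^ 3 by simpa using hdvd)
  rw [Subgroup.mem_centralizer_iff]
  intro v hv
  by_contra hvg
  have hvH : (⟨v, hv⟩ : P) ∉ H := fun h => hvg (mul_inv_eq_iff_eq_mul.1 h).symm
  have hidx : H.index = 2 := by
    interval_cases j
    · omega
    · omega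
    · rw [hHj] at hmul; omega
    · exact absurd (Subgroup.eq_top_of_card_eq H (by rw [hHj, h8]; norm_num) ▸ Subgroup.mem_top _)
        hvH
  set v' : P := ⟨g * v * g⁻¹, hgP v hv⟩
  have hv'H : v' ∉ H := by
    intro h
    apply hvH
    show g * v * g⁻¹ = v
    have h' : g * (g * v * g⁻¹) * g⁻¹ = g * v * g⁻¹ := h
    simpa using h'
  set w : P := ⟨v, hv⟩⁻¹ * v'
  have hwH : w ∈ H := (Subgroup.mul_mem_iff_of_index_two hidx).2
    (iff_of_false (fun h => hvH (by simpa using inv_mem h)) hv'H)
  have hwg : g * (w : G) * g⁻¹ = w := hwH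
  have hiter : ∀ l : ℕ, g ^ l * v * (g ^ l)⁻¹ = v * (w : G) ^ l := by
    intro l
    induction l with
    | zero => simp
    | succ l ih =>
      rw [pow_succ', mul_inv_rev, show g * g ^ l * v * ((g ^ l)⁻¹ * g⁻¹) =
        g * (g ^ l * v * (g ^ l)⁻¹) * g⁻¹ by group, ih,
        show g * (v * (w : G) ^ l) * g⁻¹ = g * v * g⁻¹ * (g * (w : G) ^ l * g⁻¹) by group,
        ← conj_pow, hwg, show g * v * g⁻¹ = v * (w : G) by
          simp [w, v'], mul_assoc, ← pow_succ']
  have hw : (w : G) ^ n = 1 := by
    have h := hiter n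
    rw [← (Subgroup.mem_centralizer_iff.1 hgn v hv), mul_inv_cancel_right] at h
    exact mul_left_cancel (h.symm.trans (mul_one v).symm)
  have hw8 : orderOf (w : G) ∣ 2 ^ 3 := by
    rw [Subgroup.orderOf_coe]
    exact (orderOf_dvd_natCard w).trans (dvd_of_eq (by rw [h8]; norm_num))
  have hw1 : (w : G) = 1 := orderOf_eq_one_iff.1 (Nat.eq_one_of_dvd_coprimes
    ((Nat.coprime_two_left.2 hn).pow_left 3) hw8 (orderOf_dvd_of_pow_eq_one hw))
  apply hvH
  show g * v * g⁻¹ = v
  have h1 := hiter 1
  simpa [hw1] using h1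

/-- An abelian defect group of order eight is impossible. -/
theorem not_abelian_eight (hM : IsPModular p M) (hB : IsPBlock M B) (hD : IsDefectGroup p M B P)
    (hab : ∀ a ∈ P, ∀ b ∈ P, a * b = b * a) (hp2 : p = 2) (h8 : Nat.card P = 8)
    (hl : blockRank p B = 1) (hk : Nat.card B = 5) : False := by
  classical
  obtain ⟨c, hc⟩ := H19.AbelianNilpotent.exists_root hM hB hD hab
  have hmax := H19.AbelianLocal.isMax_cent hM hB hD hab hc
  set T := H23.stab P (H23.eG M (Subgroup.centralizer (P : Set G)) c) with hT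
  have hCT : Subgroup.centralizer (P : Set G) ≤ T := H23.centralizer_le_stab p hmax.1
  have hTN : ∀ t ∈ T, ∀ a ∈ P, t * a * t⁻¹ ∈ P := fun t ht a ha =>
    (Subgroup.mem_normalizer_iff.1 ht.1 a).1 ha
  haveI hCn : ((Subgroup.centralizer (P : Set G)).subgroupOf T).Normal := ⟨fun a ha t => by
    rw [Subgroup.mem_subgroupOf, Subgroup.mem_centralizer_iff] at ha ⊢
    intro b hb
    have hb' : (t : G)⁻¹ * b * (t : G) ∈ P := by
      simpa using hTN _ (inv_mem t.2) b hb
    have h := ha _ hb'
    simp only [Subgroup.coe_mul, Subgroup.coe_inv]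
    calc b * ((t : G) * a * (t : G)⁻¹)
        = (t : G) * ((t : G)⁻¹ * b * (t : G) * a) * (t : G)⁻¹ := by group
      _ = _ := by rw [h]; group⟩
  set C₀ := (Subgroup.centralizer (P : Set G)).subgroupOf T with hC₀
  have hn : Odd C₀.index := by
    obtain ⟨Q⟩ : Nonempty (Sylow p T) := inferInstance
    have hQ : (Q : Subgroup T) ≤ C₀ := fun q hq => by
      rw [hC₀, Subgroup.mem_subgroupOf]
      exact H19.AbelianLocal.pGroup_le_cent hB hab hmax (S := (Q : Subgroup T).map T.subtype)
        (Q.2.map _) (Subgroup.map_subtype_le _) ⟨q, hq, rfl⟩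
    rw [← Nat.not_even_iff_odd, even_iff_two_dvd, ← hp2]
    exact fun h => Q.not_dvd_index (h.trans (Subgroup.index_dvd_of_le hQ))
  have hpow : ∀ t ∈ T, t ^ C₀.index ∈ Subgroup.centralizer (P : Set G) := fun t ht => by
    have := Subgroup.mem_subgroupOf.1 (C₀.pow_index_mem (⟨t, ht⟩ : T))
    simpa using this
  letI act : MulAction T P :=
    { smul := fun t u => ⟨(t : G) * u * (t : G)⁻¹, hTN _ t.2 _ u.2⟩
      one_smul := fun u => Subtype.ext (by
        show ((1 : T) : G) * u * ((1 : T) : G)⁻¹ = u
        simp)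
      mul_smul := fun s t u => Subtype.ext (by
        show ((s * t : T) : G) * u * ((s * t : T) : G)⁻¹ = _
        show _ = (s : G) * ((t : G) * u * (t : G)⁻¹) * (s : G)⁻¹
        simp [mul_assoc]) }
  have hsmul : ∀ (t : T) (u : P), ((t • u : P) : G) = (t : G) * u * (t : G)⁻¹ := fun _ _ => rfl
  have hstab : ∀ u : P, MulAction.stabilizer T u =
      (Subgroup.centralizer ({(u : G)} : Set G)).subgroupOf T := fun u => by
    ext t
    rw [MulAction.mem_stabilizer_iff, Subgroup.mem_subgroupOf,
      Subgroup.mem_centralizer_singleton_iff, Subtype.ext_iff, hsmul, mul_inv_eq_iff_eq_mul]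
  have hcardstab : ∀ u : P, Nat.card (T ⊓ Subgroup.centralizer ({(u : G)} : Set G) : Subgroup G) =
      Nat.card (MulAction.stabilizer T u) := fun u => by
    rw [hstab, ← Subgroup.inf_subgroupOf_left,
      Nat.card_congr (Subgroup.subgroupOfEquivOfLe inf_le_left).toEquiv]
  have horb : ∀ u : P, Nat.card (MulAction.stabilizer T u) *
      Nat.card (MulAction.orbit T u) = Nat.card T := fun u => by
    rw [Nat.card_coe_set_eq, ← MulAction.index_stabilizer, Subgroup.card_mul_index]
  have hC0le : ∀ u : P, C₀ ≤ MulAction.stabilizer T u := fun u t ht => by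
    rw [MulAction.mem_stabilizer_iff, Subtype.ext_iff, hsmul, mul_inv_eq_iff_eq_mul]
    exact (Subgroup.mem_centralizer_iff.1 (Subgroup.mem_subgroupOf.1 ht) u u.2).symm
  have horbodd : ∀ u : P, Odd (Nat.card (MulAction.orbit T u)) := fun u => by
    rw [Nat.card_coe_set_eq, ← MulAction.index_stabilizer]
    exact Odd.of_dvd_nat hn (Subgroup.index_dvd_of_le (hC0le u))
  set rk : P → ℕ := fun u =>
    H19.LocalRank.rk p M c (Subgroup.centralizer ({(u : G)} : Set G)) with hrk
  haveI : DecidablePred fun g : G => g ∈ P := Classical.decPred _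
  have hsum := H19.AbelianSum.natCard_eq hM hB hab hc.1 hmax
  rw [hk] at hsum
  simp only [← hT, hcardstab] at hsum
  have hTpos : 0 < Nat.card T := Nat.card_pos
  have hW : ∀ u : P, (∀ t : T, t • u = u) → rk u = 1 := fun u hu => by
    rw [hrk, ← hl]
    exact ((H19.Watanabe.main hM _ G le_rfl B P c hB hab hc.1 hmax u u.2
      fun t ht => congrArg Subtype.val (hu ⟨t, ht⟩)).1).symm
  have hCP : ∀ u : P, Subgroup.centralizer (P : Set G) ≤
      Subgroup.centralizer ({(u : G)} : Set G) := fun u a ha =>
    Subgroup.mem_centralizer_singleton_iff.2 (Subgroup.mem_centralizer_iff.1 ha u u.2).symm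
  by_cases hfix : ∃ x : P, x ≠ 1 ∧ ∀ t : T, t • x = x
  · -- a fixed point
    obtain ⟨x, hx1, hx⟩ := hfix
    have hfree : ∀ u : P, ¬ (∀ t : T, t • u = u) →
        Nat.card (MulAction.stabilizer T u) = Nat.card C₀ ∧ rk u = 1 := by
      intro u hu
      have hu1 : u ≠ 1 := fun h => hu fun t => by
        rw [h]; exact Subtype.ext (by rw [hsmul]; simp)
      have hcent : ∀ t ∈ T, t * (u : G) * t⁻¹ = u →
          t ∈ Subgroup.centralizer (P : Set G) := fun t ht htu =>
        mem_centralizer_of_two hab h8 (hTN t ht) hn (hpow t ht) x.2 u.2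
          (fun h => hx1 (Subtype.ext h)) (fun h => hu1 (Subtype.ext h))
          (fun h => hu (Subtype.ext h ▸ hx)) (congrArg Subtype.val (hx ⟨t, ht⟩)) htu
      refine ⟨?_, ?_⟩
      · congr 1
        congr 1
        refine le_antisymm (fun t ht => ?_) (hC0le u)
        exact Subgroup.mem_subgroupOf.2 (hcent t t.2 (congrArg Subtype.val ht))
      · obtain ⟨b, hind, hin, -, -, hle⟩ := H19.LocalRank.exists_local hM hB hab hc.1 hmax u.2
        rw [hrk]
        show H19.LocalRank.rk p M c _ = 1
        rw [H19.LocalRank.rk_eq (hCP u) hin]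
        exact H19.AbelianFree.subsection_rank_one hM hB hab hmax u.2 hcent hind.1 hle
    let F : Subgroup P :=
      { carrier := {u | ∀ t : T, t • u = u}
        one_mem' := fun t => Subtype.ext (by rw [hsmul]; simp)
        mul_mem' := fun {a b} ha hb t => Subtype.ext (by
          rw [hsmul, Subgroup.coe_mul]
          conv_rhs => rw [← congrArg Subtype.val (ha t), ← congrArg Subtype.val (hb t), hsmul,
            hsmul]
          group)
        inv_mem' := fun {a} ha t => Subtype.ext (by
          rw [hsmul, Subgroup.coe_inv]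
          conv_rhs => rw [← congrArg Subtype.val (ha t), hsmul]
          group) }
    have h2 : ∀ u : P, Nat.card (MulAction.stabilizer T u) * rk u =
        if u ∈ F then Nat.card T else Nat.card C₀ := by
      intro u
      split_ifs with hu
      · rw [hW u hu, mul_one, show MulAction.stabilizer T u = ⊤ from
          top_le_iff.1 fun t _ => hu t, Subgroup.card_top]
      · rw [(hfree u hu).1, (hfree u hu).2, mul_one]
    simp only [hrk] at h2
    simp only [h2, sum_ite, sum_const, smul_eq_mul] at hsum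
    have hF : (univ.filter fun u : P => u ∈ F).card = Nat.card F := by
      rw [Nat.card_eq_fintype_card, Fintype.card_subtype]
    have hF' : (univ.filter fun u : P => u ∉ F).card = 8 - Nat.card F := by
      rw [filter_not, card_sdiff_of_subset (filter_subset _ _), card_univ, hF,
        ← Nat.card_eq_fintype_card, h8]
    rw [hF, hF', ← Subgroup.card_mul_index C₀] at hsum
    have hC0pos : 0 < Nat.card C₀ := Nat.card_pos
    have heq : Nat.card F * C₀.index + (8 - Nat.card F) = C₀.index * 5 :=
      Nat.eq_of_mul_eq_mul_left hC0pos (by rw [mul_add]; linarith)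
    have hd := Subgroup.card_subgroup_dvd_card F
    rw [h8] at hd
    have hF2 : 2 ≤ Nat.card F := by
      haveI : Nontrivial F := ⟨⟨1, ⟨x, hx⟩, fun h => hx1 (congrArg Subtype.val h).symm⟩⟩
      exact Finite.one_lt_card
    obtain ⟨j, hj, hFj⟩ := (Nat.dvd_prime_pow Nat.prime_two).1
      (show Nat.card F ∣ 2 ^ 3 by simpa using hd)
    obtain ⟨m, hm⟩ := hn
    rw [hFj] at heq hF2
    interval_cases j <;> omega
  · -- no fixed point
    push Not at hfix
    have hone : ∀ t : T, t • (1 : P) = 1 := fun t => Subtype.ext (by rw [hsmul]; simp)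
    have hnot1 : ∀ u : P, u ≠ 1 → (1 : P) ∉ MulAction.orbit T u := fun u hu h => by
      rw [MulAction.mem_orbit_symm] at h
      obtain ⟨t, ht⟩ := h
      exact hu ((ht.symm).trans (hone t))
    have h3 : ∀ u : P, u ≠ 1 → 3 ≤ Nat.card (MulAction.orbit T u) := by
      intro u hu
      obtain ⟨t, ht⟩ := hfix u hu
      haveI : Nontrivial (MulAction.orbit T u) :=
        ⟨⟨⟨u, MulAction.mem_orbit_self u⟩, ⟨t • u, MulAction.mem_orbit u t⟩,
          fun h => ht (congrArg Subtype.val h).symm⟩⟩
      have h1 : 1 < Nat.card (MulAction.orbit T u) := Finite.one_lt_card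
      obtain ⟨m, hm⟩ := horbodd u
      omega
    have h7 : ∀ u : P, u ≠ 1 → Nat.card (MulAction.orbit T u) = 7 := by
      intro u hu
      let O : P → Finset P := fun v => univ.filter fun y => y ∈ MulAction.orbit T v
      have hO : ∀ v, (O v).card = Nat.card (MulAction.orbit T v) := fun v => by
        rw [Nat.card_eq_fintype_card, Fintype.card_subtype]
      have hP : (univ.erase (1 : P)).card = 7 := by
        rw [card_erase_of_mem (mem_univ _), card_univ, ← Nat.card_eq_fintype_card, h8]
      have hsub : ∀ v, v ≠ 1 → O v ⊆ univ.erase (1 : P) := fun v hv y hy =>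
        mem_erase.2 ⟨fun he => hnot1 v hv (he ▸ (mem_filter.1 hy).2), mem_univ _⟩
      have hdisj : ∀ v w, w ∉ O v → Disjoint (O v) (O w) := fun v w hw => by
        rw [Finset.disjoint_left]
        intro y hy hy'
        refine hw (mem_filter.2 ⟨mem_univ _, ?_⟩)
        rw [← MulAction.orbit_eq_iff.2 (mem_filter.1 hy).2,
          MulAction.orbit_eq_iff.2 (mem_filter.1 hy').2]
        exact MulAction.mem_orbit_self w
      by_contra hne
      rw [← hO] at hne
      have hu3 := h3 u hu
      have huodd := horbodd u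
      rw [← hO] at hu3 huodd
      have hle : (O u).card < 7 := lt_of_le_of_ne (hP ▸ card_le_card (hsub u hu)) hne
      obtain ⟨v, hv, hvu⟩ : ∃ v ∈ univ.erase (1 : P), v ∉ O u :=
        exists_mem_notMem_of_card_lt_card (by rw [hP]; exact hle)
      have hv1 := (mem_erase.1 hv).1
      have hv3 := h3 v hv1
      have hvodd := horbodd v
      rw [← hO] at hv3 hvodd
      have hd := card_union_of_disjoint (hdisj u v hvu)
      have hle2 := card_le_card (union_subset (hsub u hu) (hsub v hv1))
      obtain ⟨a, ha⟩ := huodd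
      obtain ⟨b, hb⟩ := hvodd
      obtain ⟨w, hw, hwuv⟩ : ∃ w ∈ univ.erase (1 : P), w ∉ O u ∪ O v :=
        exists_mem_notMem_of_card_lt_card (by rw [hP]; omega)
      have hw1 := (mem_erase.1 hw).1
      have hw3 := h3 w hw1
      rw [← hO] at hw3
      have hd3 : Disjoint (O u ∪ O v) (O w) := disjoint_union_left.2
        ⟨hdisj u w fun h => hwuv (mem_union_left _ h),
          hdisj v w fun h => hwuv (mem_union_right _ h)⟩
      have hle3 := card_le_card (union_subset (union_subset (hsub u hu) (hsub v hv1)) (hsub w hw1))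
      rw [card_union_of_disjoint hd3, hd, hP] at hle3
      omega
    have hle3 : ∀ u : P, u ≠ 1 → rk u ≤ 3 := by
      intro u hu
      obtain ⟨b, hind, hin, hdef, -, -⟩ := H19.LocalRank.exists_local hM hB hab hc.1 hmax u.2
      show H19.LocalRank.rk p M c _ ≤ 3
      rw [H19.LocalRank.rk_eq (hCP u) hin]
      haveI := Fintype.ofFinite (Subgroup.centralizer ({(u : G)} : Set G))
      have hd : blockDefect p B = 3 := by
        have h := H20.card_defectGroup hM hB hD
        rw [h8, hp2, show (8 : ℕ) = 2 ^ 3 by norm_num] at h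
        rw [hp2]
        exact (Nat.pow_right_injective le_rfl h).symm
      have hord : p ∣ Nat.card (Subgroup.zpowers (u : G)) := by
        rw [Nat.card_zpowers, hp2]
        have h1 : orderOf (u : G) ∣ 2 ^ 3 := by
          rw [Subgroup.orderOf_coe]
          exact (orderOf_dvd_natCard u).trans (dvd_of_eq (by rw [h8]; norm_num))
        obtain ⟨j, -, hj⟩ := (Nat.dvd_prime_pow Nat.prime_two).1 h1
        rcases j with _ | j
        · rw [pow_zero, orderOf_eq_one_iff] at hj
          exact absurd (Subtype.ext hj) hu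
        · rw [hj]; exact dvd_pow_self 2 (Nat.succ_ne_zero j)
      obtain ⟨⟨z, hz⟩, hzo⟩ := exists_prime_orderOf_dvd_card' p hord
      obtain ⟨j, rfl⟩ := Subgroup.mem_zpowers_iff.1 hz
      have hzC : (u : G) ^ j ∈ Subgroup.centralizer ({(u : G)} : Set G) :=
        Subgroup.mem_centralizer_singleton_iff.2 ((Commute.refl (u : G)).zpow_left j).eq
      refine blockRank_le_three (z := ⟨_, hzC⟩) hM hind.1 ?_ ?_ hp2 (hdef.trans hd)
      · rw [Subgroup.mem_center_iff]
        intro a
        exact Subtype.ext ((show Commute (a : G) u from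
          Subgroup.mem_centralizer_singleton_iff.1 a.2).zpow_right j).eq
      · rw [Subgroup.orderOf_mk]
        rwa [Subgroup.orderOf_mk] at hzo
    have hterm : ∀ u ∈ univ.erase (1 : P),
        7 * (Nat.card (MulAction.stabilizer T u) * rk u) ≤ 3 * Nat.card T := by
      intro u hu
      have hu1 := (mem_erase.1 hu).1
      rw [← horb u, h7 u hu1, ← mul_assoc, mul_comm 7, mul_comm 3]
      exact Nat.mul_le_mul_left _ (hle3 u hu1)
    have h1 := hW 1 hone
    simp only [hrk] at h1 hterm
    rw [← add_sum_erase _ _ (mem_univ (1 : P)), h1, mul_one,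
      show MulAction.stabilizer T (1 : P) = ⊤ from top_le_iff.1 fun t _ => hone t,
      Subgroup.card_top] at hsum
    have hb := sum_le_sum hterm
    rw [← mul_sum, sum_const, card_erase_of_mem (mem_univ _), card_univ, ← Nat.card_eq_fintype_card,
      h8, smul_eq_mul] at hb
    omega

end Abelian

/-- The defect group of a block with one Brauer character and five characters. -/
theorem block_five (hM : IsPModular p M) {B : Set (IrrCharacter G)} (hB : IsPBlock M B)
    {D : Subgroup G} (hD : IsDefectGroup p M B D) (hl : blockRank p B = 1) (hk : Nat.card B = 5) :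
    Nat.card D = 5 ∨ (Nat.card D = 8 ∧ ¬ IsMulCommutative D) := by
  classical
  haveI := H20.k_charP (p := p) hM
  haveI := H23.isAlgClosed_k hM.2.1
  have h8 := card_defect_le_eight hM hB hD hl hk
  have h5 : ¬ Nat.card D ≤ 4 := fun h => by
    have := H20.SmallBlocks.card_le_defect hM hB hD h
    omega
  have hcard := H20.card_defectGroup hM hB hD
  have hd : blockDefect p B ≠ 0 := fun h0 => by rw [hcard, h0, pow_zero] at h5; omega
  have hpd : p ∣ Nat.card D := hcard ▸ dvd_pow_self p hd
  rcases (show Nat.card D = 5 ∨ Nat.card D = 6 ∨ Nat.card D = 7 ∨ Nat.card D = 8 by omega) with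
    h | h | h | h
  · exact Or.inl h
  · exfalso
    have h2 : 2 ∣ p := Nat.prime_two.dvd_of_dvd_pow (n := blockDefect p B)
      (by rw [← hcard, h]; norm_num)
    have h3 : 3 ∣ p := Nat.prime_three.dvd_of_dvd_pow (n := blockDefect p B)
      (by rw [← hcard, h]; norm_num)
    rw [Nat.prime_dvd_prime_iff_eq Nat.prime_two hp.out] at h2
    rw [Nat.prime_dvd_prime_iff_eq Nat.prime_three hp.out] at h3
    omega
  · exfalso
    have hprime : (Nat.card D).Prime := by rw [h]; norm_num
    haveI : Fact (Nat.card D).Prime := ⟨hprime⟩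
    have hgen : ∀ x : D, x ≠ 1 → ∀ a : D, ∃ z : ℤ, x ^ z = a := fun x hx a =>
      Subgroup.mem_zpowers_iff.1
        ((zpowers_eq_top_of_prime_card (G := D) rfl hx) ▸ Subgroup.mem_top a)
    have hab : ∀ a ∈ D, ∀ b ∈ D, a * b = b * a := fun a ha b hb => by
      haveI : IsCyclic D := isCyclic_of_prime_card (p := Nat.card D) rfl
      exact congrArg Subtype.val ((IsCyclic.commGroup (α := D)).mul_comm ⟨a, ha⟩ ⟨b, hb⟩)
    obtain ⟨c, hc⟩ := H19.AbelianNilpotent.exists_root hM hB hD hab
    have hmax := H19.AbelianLocal.isMax_cent hM hB hD hab hc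
    have hfree : ∀ g ∈ H23.stab D (H23.eG M (Subgroup.centralizer (D : Set G)) c), ∀ x ∈ D,
        x ≠ 1 → g * x * g⁻¹ = x → g ∈ Subgroup.centralizer (D : Set G) := by
      intro g _ x hx hx1 hgx
      rw [Subgroup.mem_centralizer_iff]
      intro a ha
      obtain ⟨z, hz⟩ := hgen ⟨x, hx⟩ (fun he => hx1 (congrArg Subtype.val he)) ⟨a, ha⟩
      have hz' : x ^ z = a := by simpa using congrArg Subtype.val hz
      rw [← hz']
      exact ((show Commute g x from mul_inv_eq_iff_eq_mul.1 hgx).zpow_right z).eq.symm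
    obtain ⟨t, ht, hte⟩ := H19.AbelianFree.card_formula hM hB hab hmax hfree
    have ht4 : t = 4 := by omega
    subst ht4
    omega
  · refine Or.inr ⟨h, fun hab => ?_⟩
    have hp2 : p = 2 := by
      rw [h] at hpd
      exact (Nat.prime_dvd_prime_iff_eq hp.out Nat.prime_two).1
        (hp.out.dvd_of_dvd_pow (n := 3) (by simpa using hpd))
    exact not_abelian_eight hM hB hD (fun a ha b hb =>
      congrArg Subtype.val (hab.is_comm.comm (⟨a, ha⟩ : D) ⟨b, hb⟩)) hp2 h hl hk

end H18.Local5
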