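import Mathlib.LinearAlgebra.Matrix.Determinant.Basic
import Mathlib.LinearAlgebra.Matrix.ToLinearEquiv
import Mathlib.LinearAlgebra.Dimension.Constructions
import Mathlib.LinearAlgebra.FiniteDimensional.Lemmas
import Mathlib.LinearAlgebra.Dual.Lemmas
import Mathlib.FieldTheory.IsAlgClosed.Basic

/-!
# Linear spaces of maps of small rank
-/

set_option autoImplicit false
set_option linter.unusedSectionVars false

namespace H18.Local5

universe u v w x

variable {k : Type u} [Field k]

section RankOne

variable {X : Type v} {U : Type w} {W : Type x} [AddCommGroup X] [Module k X] [AddCommGroup U]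
  [Module k U] [AddCommGroup W] [Module k W]

/-- A space of maps of rank at most one has a common image or a common kernel of codimension one. -/
theorem rank_one_cases (μ : X →ₗ[k] U →ₗ[k] W)
    (h : ∀ x : X, ∃ z : W, ∀ u : U, μ x u ∈ Submodule.span k {z}) :
    (∃ z : W, ∀ x u, μ x u ∈ Submodule.span k {z}) ∨
      ∃ e : U, ∀ u : U, ∃ c : k, ∀ x, μ x (u - c • e) = 0 := by
  classical
  by_cases hcom : ∃ z : W, ∀ x u, μ x u ∈ Submodule.span k {z}
  · exact Or.inl hcom
  refine Or.inr ?_
  push Not at hcom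
  obtain ⟨a, e, hae⟩ := hcom 0
  have hae0 : μ a e ≠ 0 := fun h0 => hae (by rw [h0]; exact Submodule.zero_mem _)
  obtain ⟨b, f, hbf⟩ := hcom (μ a e)
  have hline : ∀ {x : X} {u₁ u₂ : U}, μ x u₁ ≠ 0 → μ x u₂ ∈ Submodule.span k {μ x u₁} := by
    intro x u₁ u₂ h1
    obtain ⟨z, hz⟩ := h x
    obtain ⟨c₁, hc₁⟩ := Submodule.mem_span_singleton.1 (hz u₁)
    obtain ⟨c₂, hc₂⟩ := Submodule.mem_span_singleton.1 (hz u₂)
    have hc0 : c₁ ≠ 0 := fun h0 => h1 (by rw [← hc₁, h0, zero_smul])
    exact Submodule.mem_span_singleton.2 ⟨c₂ / c₁, by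
      rw [← hc₁, ← hc₂, smul_smul, div_mul_cancel₀ _ hc0]⟩
  refine ⟨e, fun u => ?_⟩
  obtain ⟨c, hc⟩ := Submodule.mem_span_singleton.1 (hline (u₂ := u) hae0)
  refine ⟨c, fun x => ?_⟩
  have hau : μ a (u - c • e) = 0 := by rw [map_sub, map_smul, hc, sub_self]
  -- the value spans the line of every map with that line
  have hA : ∀ {y : X}, μ y (u - c • e) ≠ 0 → μ a e ∈ Submodule.span k {μ y (u - c • e)} := by
    intro y hy
    have hne : μ (a + y) (u - c • e) ≠ 0 := by
      rw [map_add, LinearMap.add_apply, hau, zero_add]; exact hy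
    have h1 := hline (u₂ := e) hne
    rw [map_add, LinearMap.add_apply, LinearMap.add_apply, hau, zero_add] at h1
    simpa using Submodule.sub_mem _ h1 (hline (u₂ := e) hy)
  have hbu : μ b (u - c • e) = 0 := by
    by_contra hb
    apply hbf
    obtain ⟨d, hd⟩ := Submodule.mem_span_singleton.1 (hA hb)
    have hd0 : d ≠ 0 := fun h0 => hae0 (by rw [← hd, h0, zero_smul])
    obtain ⟨d', hd'⟩ := Submodule.mem_span_singleton.1 (hline (u₂ := f) hb)
    rw [← hd', ← hd]
    exact Submodule.mem_span_singleton.2 ⟨d' / d, by rw [smul_smul, div_mul_cancel₀ _ hd0]⟩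
  by_contra hx
  apply hbf
  obtain ⟨d, hd⟩ := Submodule.mem_span_singleton.1 (hA hx)
  have hd0 : d ≠ 0 := fun h0 => hae0 (by rw [← hd, h0, zero_smul])
  have hne : μ (b + x) (u - c • e) ≠ 0 := by
    rw [map_add, LinearMap.add_apply, hbu, zero_add]; exact hx
  have h1 := hline (u₂ := f) hne
  rw [map_add, LinearMap.add_apply, LinearMap.add_apply, hbu, zero_add] at h1
  have h2 : μ b f ∈ Submodule.span k {μ x (u - c • e)} := by
    simpa using Submodule.sub_mem _ h1 (hline (u₂ := f) hx)
  obtain ⟨d', hd'⟩ := Submodule.mem_span_singleton.1 h2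
  rw [← hd', ← hd]
  exact Submodule.mem_span_singleton.2 ⟨d' / d, by rw [smul_smul, div_mul_cancel₀ _ hd0]⟩

end RankOne

section Functionals

variable {V : Type v} [AddCommGroup V] [Module k V]

theorem eq_zero_or_eq_zero {f g : V →ₗ[k] k} (h : ∀ x, f x * g x = 0) : f = 0 ∨ g = 0 := by
  by_contra hne
  push Not at hne
  obtain ⟨x, hx⟩ := DFunLike.ne_iff.1 hne.1
  obtain ⟨y, hy⟩ := DFunLike.ne_iff.1 hne.2
  simp only [LinearMap.zero_apply] at hx hy
  have hgx : g x = 0 := (mul_eq_zero.1 (h x)).resolve_left hx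
  have hfy : f y = 0 := (mul_eq_zero.1 (h y)).resolve_right hy
  have hxy := h (x + y)
  rw [map_add, map_add, hgx, hfy, add_zero, zero_add] at hxy
  exact mul_ne_zero hx hy hxy

theorem eq_zero_of_mul_mul [Infinite k] {f g l : V →ₗ[k] k} (hf : f ≠ 0) (hg : g ≠ 0)
    (h : ∀ x, f x * g x * l x = 0) : l = 0 := by
  classical
  by_contra hl
  obtain ⟨x, hx⟩ : ∃ x, f x * g x ≠ 0 := by
    by_contra hc
    push Not at hc
    rcases eq_zero_or_eq_zero hc with h0 | h0
    · exact hf h0
    · exact hg h0
  obtain ⟨y, hy⟩ := DFunLike.ne_iff.1 hl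
  simp only [LinearMap.zero_apply] at hy
  have hlx : l x = 0 := (mul_eq_zero.1 (h x)).resolve_left hx
  obtain ⟨hfx, hgx⟩ := mul_ne_zero_iff.1 hx
  -- avoid the two roots on the line
  obtain ⟨t, ht⟩ := Infinite.exists_notMem_finset ({-(f y) / f x, -(g y) / g x} : Finset k)
  simp only [Finset.mem_insert, Finset.mem_singleton, not_or] at ht
  have hh := h (t • x + y)
  simp only [map_add, map_smul, smul_eq_mul, hlx, mul_zero, zero_add] at hh
  refine mul_ne_zero (mul_ne_zero (fun h0 => ht.1 ?_) (fun h0 => ht.2 ?_)) hy hh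
  · field_simp
    linear_combination h0
  · field_simp
    linear_combination h0

end Functionals

section RankTwo

variable [Infinite k] {V : Type v} [AddCommGroup V] [Module k V] [FiniteDimensional k V]

/-- A three-dimensional space of singular maps of a three-dimensional space is a compression, or
every element kills its own image under one bijection. -/
theorem rank_two_cases (hV : Module.finrank k V = 3) (μ : V →ₗ[k] V →ₗ[k] V)
    (hsing : ∀ x, ∃ y ≠ 0, μ x y = 0) (hright : ∀ y, (∀ x, μ x y = 0) → y = 0)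
    (hspan : ∀ f : V →ₗ[k] k, (∀ x y, f (μ x y) = 0) → f = 0) :
    (∃ (p q z : V), LinearIndependent k ![p, q] ∧
        ∀ x, μ x p ∈ Submodule.span k {z} ∧ μ x q ∈ Submodule.span k {z}) ∨
      ∃ φ : V →ₗ[k] V, Function.Injective φ ∧ ∀ x, μ x (φ x) = 0 := by
  classical
  -- a map of rank two
  obtain ⟨a, v1, v2, hind⟩ : ∃ a v1 v2, LinearIndependent k ![μ a v1, μ a v2] := by
    by_contra hno
    push Not at hno
    have hlines : ∀ x : V, ∃ z : V, ∀ u, μ x u ∈ Submodule.span k {z} := fun x => by
      by_cases h0 : ∀ u, μ x u = 0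
      · exact ⟨0, fun u => by rw [h0 u]; exact Submodule.zero_mem _⟩
      push Not at h0
      obtain ⟨u₀, hu₀⟩ := h0
      refine ⟨μ x u₀, fun u => ?_⟩
      have hd := hno x u₀ u
      rw [LinearIndependent.pair_iff' hu₀] at hd
      push Not at hd
      obtain ⟨c, hc⟩ := hd
      exact Submodule.mem_span_singleton.2 ⟨c, hc⟩
    rcases rank_one_cases μ hlines with ⟨z, hz⟩ | ⟨e, he⟩
    · have hlt : Submodule.span k {z} < ⊤ := by
        refine lt_top_iff_ne_top.2 fun htop => ?_
        have h1 := finrank_span_le_card (R := k) ({z} : Set V)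
        rw [htop, finrank_top, hV] at h1
        simp at h1
      obtain ⟨f, hf0, hf⟩ := Submodule.exists_dual_map_eq_bot_of_lt_top hlt inferInstance
      refine hf0 (hspan f fun x y => ?_)
      have hm := Submodule.mem_map_of_mem (f := f) (hz x y)
      rwa [hf, Submodule.mem_bot] at hm
    · have htop : (⊤ : Submodule k V) ≤ Submodule.span k {e} := fun u _ => by
        obtain ⟨c, hc⟩ := he u
        exact Submodule.mem_span_singleton.2 ⟨c, (sub_eq_zero.1 (hright _ hc)).symm⟩
      have h1 := (Submodule.finrank_mono htop).trans (finrank_span_le_card (R := k) ({e} : Set V))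
      rw [finrank_top, hV] at h1
      simp at h1
  obtain ⟨y, hy0, hay⟩ := hsing a
  -- bases
  have hdom : LinearIndependent k ![y, v1, v2] := by
    rw [Fintype.linearIndependent_iff]
    intro c hc
    have hc' := congrArg (μ a) hc
    simp only [Fin.sum_univ_three, Matrix.cons_val_zero, Matrix.cons_val_one, Matrix.cons_val,
      map_add, map_smul, map_zero, hay, smul_zero, zero_add] at hc' hc
    obtain ⟨h1, h2⟩ := (LinearIndependent.pair_iff.1 hind) _ _ hc'
    rw [h1, h2, zero_smul, zero_smul, add_zero, add_zero] at hc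
    intro i
    fin_cases i
    · exact (smul_eq_zero.1 hc).resolve_right hy0
    · exact h1
    · exact h2
  obtain ⟨w, hw⟩ := exists_linearIndependent_cons_of_lt_finrank hind (by omega)
  set D := basisOfLinearIndependentOfCardEqFinrank hdom (by simp [hV]) with hD
  set C := basisOfLinearIndependentOfCardEqFinrank hw (by simp [hV]) with hC
  have hDv : ∀ j, D j = ![y, v1, v2] j := fun j => by rw [hD]; simp
  have hCv : ∀ j, C j = ![w, μ a v1, μ a v2] j := fun j => by
    rw [hC, coe_basisOfLinearIndependentOfCardEqFinrank]; rfl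
  let F : Fin 3 → V →ₗ[k] k := fun i => C.coord i
  let E : Fin 3 → Fin 3 → V →ₗ[k] k := fun i j => (F i).comp (μ.flip (![y, v1, v2] j))
  have hexp : ∀ z : V, z = F 0 z • w + F 1 z • μ a v1 + F 2 z • μ a v2 := fun z => by
    conv_lhs => rw [← C.sum_repr z]
    simp [Fin.sum_univ_three, hCv, F]
  have hF : ∀ i j, F i (![w, μ a v1, μ a v2] j) = if j = i then 1 else 0 := fun i j => by
    rw [← hCv, Module.Basis.coord_apply, Module.Basis.repr_self, Finsupp.single_apply]
  have hE : ∀ i j x, E i j x = F i (μ x (![y, v1, v2] j)) := fun i j x => rfl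
  have hdet : ∀ x, E 0 0 x * (E 1 1 x * E 2 2 x - E 1 2 x * E 2 1 x) -
      E 0 1 x * (E 1 0 x * E 2 2 x - E 1 2 x * E 2 0 x) +
      E 0 2 x * (E 1 0 x * E 2 1 x - E 1 1 x * E 2 0 x) = 0 := by
    intro x
    obtain ⟨z, hz0, hz⟩ := hsing x
    let Mx : Matrix (Fin 3) (Fin 3) k := fun i j => E i j x
    have hM : Mx.det = 0 := by
      rw [← Matrix.exists_mulVec_eq_zero_iff]
      refine ⟨fun j => D.repr z j, fun h0 => hz0 (D.repr.map_eq_zero_iff.1 (Finsupp.ext fun j =>
        congrFun h0 j)), funext fun i => ?_⟩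
      have h1 : F i (μ x z) = 0 := by rw [hz, map_zero]
      rw [← D.sum_repr z] at h1
      simp only [map_sum, map_smul, smul_eq_mul, hDv] at h1
      rw [Pi.zero_apply, ← h1]
      simp only [Matrix.mulVec, dotProduct, Mx, hE]
      exact Finset.sum_congr rfl fun j _ => mul_comm _ _
    rw [Matrix.det_fin_three] at hM
    simp only [Mx] at hM
    linear_combination hM
  have ha : ∀ i j, E i j a = if i = j ∧ j ≠ 0 then 1 else 0 := by
    intro i j
    rw [hE]
    fin_cases j
    · simp [hay]
    · have h := hF i 1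
      simp only [Matrix.cons_val_one, Matrix.cons_val_zero] at h
      show F i (μ a v1) = _
      rw [h]
      fin_cases i <;> simp
    · have h := hF i 2
      simp only [Matrix.cons_val] at h
      show F i (μ a v2) = _
      rw [h]
      fin_cases i <;> simp
  -- polarise along `a`
  have hpol : ∀ x, E 0 0 x = 0 ∧ E 0 1 x * E 1 0 x + E 0 2 x * E 2 0 x = 0 := by
    intro x
    obtain ⟨t, ht⟩ := Infinite.exists_notMem_finset ({0, 1} : Finset k)
    simp only [Finset.mem_insert, Finset.mem_singleton, not_or] at ht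
    have h0 := hdet x
    have hpoly : ∀ s : k, E 0 0 x * s ^ 2 + (E 0 0 x * (E 1 1 x + E 2 2 x) -
        (E 0 1 x * E 1 0 x + E 0 2 x * E 2 0 x)) * s = 0 := by
      intro s
      have h := hdet (s • a + x)
      simp only [map_add, map_smul, smul_eq_mul, ha] at h
      simp at h
      linear_combination h - h0
    have h1 := hpoly 1
    have h2 := hpoly t
    have hp : E 0 0 x = 0 := by
      have h3 : E 0 0 x * (t * (t - 1)) = 0 := by linear_combination h2 - t * h1
      exact (mul_eq_zero.1 h3).resolve_right (mul_ne_zero ht.1 (sub_ne_zero.2 ht.2))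
    exact ⟨hp, by linear_combination (1 + E 1 1 x + E 2 2 x) * hp - h1⟩
  have hp : ∀ x, E 0 0 x = 0 := fun x => (hpol x).1
  have hru : ∀ x, E 0 1 x * E 1 0 x + E 0 2 x * E 2 0 x = 0 := fun x => (hpol x).2
  have hQ : ∀ x, E 0 2 x * (E 1 0 x * E 2 1 x - E 1 1 x * E 2 0 x) -
      E 0 1 x * (E 1 0 x * E 2 2 x - E 1 2 x * E 2 0 x) = 0 := fun x => by
    linear_combination hdet x - (E 1 1 x * E 2 2 x - E 1 2 x * E 2 1 x) * hp x
  have huy : ∀ x, μ x y = E 1 0 x • μ a v1 + E 2 0 x • μ a v2 := fun x => by
    have h := hexp (μ x y)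
    have h00 : F 0 (μ x y) = 0 := hp x
    rw [h00, zero_smul, zero_add] at h
    exact h
  have hr0 : ¬ (E 0 1 = 0 ∧ E 0 2 = 0) := by
    rintro ⟨h1, h2⟩
    have hF0 : F 0 = 0 := hspan _ fun x z => by
      rw [← D.sum_repr z]
      simp only [map_add, map_smul, smul_eq_mul, hDv, Fin.sum_univ_three, ← hE, hp x, h1, h2,
        LinearMap.zero_apply, mul_zero, add_zero]
    have := hF 0 0
    rw [hF0] at this
    simp at this
  by_cases hbij : ∃ x₁ x₂, E 1 0 x₁ * E 2 0 x₂ - E 1 0 x₂ * E 2 0 x₁ ≠ 0
  · -- the skew case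
    obtain ⟨x₁, x₂, hΔ⟩ := hbij
    set Δ := E 1 0 x₁ * E 2 0 x₂ - E 1 0 x₂ * E 2 0 x₁ with hΔdef
    set b := Δ⁻¹ • (E 2 0 x₂ • x₁ - E 2 0 x₁ • x₂) with hb
    set c := Δ⁻¹ • (E 1 0 x₁ • x₂ - E 1 0 x₂ • x₁) with hc
    have hb1 : E 1 0 b = 1 := by
      rw [hb, map_smul, map_sub, map_smul, map_smul]; simp only [smul_eq_mul]
      rw [hΔdef] at hΔ ⊢; field_simp
    have hb2 : E 2 0 b = 0 := by
      rw [hb, map_smul, map_sub, map_smul, map_smul]; simp only [smul_eq_mul]; ring
    have hc1 : E 1 0 c = 0 := by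
      rw [hc, map_smul, map_sub, map_smul, map_smul]; simp only [smul_eq_mul]; ring
    have hc2 : E 2 0 c = 1 := by
      rw [hc, map_smul, map_sub, map_smul, map_smul]; simp only [smul_eq_mul]
      rw [hΔdef] at hΔ ⊢; field_simp
    clear_value b c
    have ha0 : a ≠ 0 := fun h0 => hind.ne_zero 0 (by simp [h0])
    have habc : LinearIndependent k ![a, b, c] := by
      rw [Fintype.linearIndependent_iff]
      intro g hg
      simp only [Fin.sum_univ_three, Matrix.cons_val_zero, Matrix.cons_val_one,
        Matrix.cons_val] at hg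
      have h1 := congrArg (E 1 0) hg
      have h2 := congrArg (E 2 0) hg
      simp only [map_add, map_smul, map_zero, ha, hb1, hb2, hc1, hc2, smul_eq_mul] at h1 h2
      simp at h1 h2
      rw [h1, h2, zero_smul, zero_smul, add_zero, add_zero] at hg
      intro i
      fin_cases i
      · exact (smul_eq_zero.1 hg).resolve_right ha0
      · exact h1
      · exact h2
    set Bv := basisOfLinearIndependentOfCardEqFinrank habc (by simp [hV]) with hBv
    have hBj : ∀ j, Bv j = ![a, b, c] j := fun j => by rw [hBv]; simp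
    have hrb : E 0 1 b = 0 := by have := hru b; rw [hb1, hb2] at this; simpa using this
    have hrc : E 0 2 c = 0 := by have := hru c; rw [hc1, hc2] at this; simpa using this
    have hrbc : E 0 1 c + E 0 2 b = 0 := by
      have := hru (b + c)
      simp only [map_add, hb1, hb2, hc1, hc2, hrb, hrc] at this
      linear_combination this
    have hlam : E 0 2 b ≠ 0 := by
      intro h0
      have hc0 : E 0 1 c = 0 := by linear_combination hrbc - h0
      refine hr0 ⟨Bv.ext fun j => ?_, Bv.ext fun j => ?_⟩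
      · rw [hBj, LinearMap.zero_apply]; fin_cases j <;> simp [ha, hrb, hc0]
      · rw [hBj, LinearMap.zero_apply]; fin_cases j <;> simp [ha, h0, hrc]
    have hm21 : E 2 1 b = 0 := by
      have h := hQ b
      rw [hb1, hb2, hrb] at h
      simp at h
      exact h.resolve_left hlam
    have hm12 : E 1 2 c = 0 := by
      have h := hQ c
      rw [hc1, hc2, hrc] at h
      simp at h
      refine h.resolve_left fun h0 => hlam ?_
      linear_combination hrbc - h0
    obtain ⟨t, ht⟩ := Infinite.exists_notMem_finset ({0, 1} : Finset k)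
    simp only [Finset.mem_insert, Finset.mem_singleton, not_or] at ht
    have hcub : ∀ s : k, s ≠ 0 → (E 2 1 c + E 2 2 b - E 1 1 b) +
        s * (E 2 2 c - E 1 1 c - E 1 2 b) = 0 := by
      intro s hs
      have h := hQ (b + s • c)
      simp only [map_add, map_smul, smul_eq_mul, hb1, hb2, hc1, hc2, hrb, hrc, hm21, hm12] at h
      refine (mul_eq_zero.1 ?_).resolve_left (mul_ne_zero hs hlam)
      linear_combination h + (s * (E 2 2 b + s * E 2 2 c) - s * s * E 1 2 b) * hrbc
    have e1 := hcub 1 one_ne_zero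
    have e2 := hcub t ht.1
    have hβ : E 2 2 c - E 1 1 c - E 1 2 b = 0 := by
      have h3 : (t - 1) * (E 2 2 c - E 1 1 c - E 1 2 b) = 0 := by linear_combination e2 - e1
      exact (mul_eq_zero.1 h3).resolve_left (sub_ne_zero.2 ht.2)
    have hα : E 2 1 c + E 2 2 b - E 1 1 b = 0 := by linear_combination e1 - hβ
    refine Or.inr ⟨Bv.constr k ![y, E 1 1 b • y - v1, E 2 2 c • y - v2], ?_, ?_⟩
    · have hli : LinearIndependent k ![y, E 1 1 b • y - v1, E 2 2 c • y - v2] := by
        rw [Fintype.linearIndependent_iff]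
        intro g hg
        simp only [Fin.sum_univ_three, Matrix.cons_val_zero, Matrix.cons_val_one,
          Matrix.cons_val] at hg
        have h0 := Fintype.linearIndependent_iff.1 hdom
          ![g 0 + g 1 * E 1 1 b + g 2 * E 2 2 c, -g 1, -g 2] (by
            simp only [Fin.sum_univ_three, Matrix.cons_val_zero, Matrix.cons_val_one,
              Matrix.cons_val]
            rw [← hg]; module)
        have k0 := h0 0
        have k1 := h0 1
        have k2 := h0 2
        simp at k0 k1 k2
        intro i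
        fin_cases i
        · simpa [k1, k2] using k0
        · exact k1
        · exact k2
      rw [← LinearMap.ker_eq_bot, LinearMap.ker_eq_bot']
      intro x hx
      rw [Module.Basis.constr_apply_fintype] at hx
      have h0 := Fintype.linearIndependent_iff.1 hli _ hx
      exact Bv.equivFun.map_eq_zero_iff.1 (funext h0)
    · intro x
      set φ := Bv.constr k ![y, E 1 1 b • y - v1, E 2 2 c • y - v2] with hφ
      have hφj : ∀ j, φ (![a, b, c] j) = ![y, E 1 1 b • y - v1, E 2 2 c • y - v2] j := fun j => by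
        rw [← hBj, hφ, Module.Basis.constr_basis]
      have φa : φ a = y := hφj 0
      have φb : φ b = E 1 1 b • y - v1 := hφj 1
      have φc : φ c = E 2 2 c • y - v2 := hφj 2
      have hby : μ b y = μ a v1 := by rw [huy, hb1, hb2, one_smul, zero_smul, add_zero]
      have hcy : μ c y = μ a v2 := by rw [huy, hc1, hc2, one_smul, zero_smul, zero_add]
      have hbv1 : μ b v1 = E 1 1 b • μ a v1 := by
        conv_lhs => rw [hexp (μ b v1)]
        show E 0 1 b • w + E 1 1 b • _ + E 2 1 b • _ = _
        rw [hrb, hm21]; module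
      have hcv2 : μ c v2 = E 2 2 c • μ a v2 := by
        conv_lhs => rw [hexp (μ c v2)]
        show E 0 2 c • w + E 1 2 c • _ + E 2 2 c • _ = _
        rw [hrc, hm12]; module
      have hbv2 : μ b v2 = E 0 2 b • w + E 1 2 b • μ a v1 + E 2 2 b • μ a v2 := hexp _
      have hcv1 : μ c v1 = E 0 1 c • w + E 1 1 c • μ a v1 + E 2 1 c • μ a v2 := hexp _
      have hab : μ a (φ b) + μ b (φ a) = 0 := by
        rw [φa, φb, map_sub, map_smul, hay, hby]; module
      have hac : μ a (φ c) + μ c (φ a) = 0 := by
        rw [φa, φc, map_sub, map_smul, hay, hcy]; module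
      have hbb : μ b (φ b) = 0 := by rw [φb, map_sub, map_smul, hby, hbv1, sub_self]
      have hcc : μ c (φ c) = 0 := by rw [φc, map_sub, map_smul, hcy, hcv2, sub_self]
      have hbc : μ b (φ c) + μ c (φ b) = 0 := by
        simp only [φb, φc, map_sub, map_smul, hby, hcy, hbv2, hcv1]
        have e0 : E 0 2 b = -E 0 1 c := by linear_combination hrbc
        have e1 : E 2 2 c = E 1 1 c + E 1 2 b := by linear_combination hβ
        have e2 : E 1 1 b = E 2 1 c + E 2 2 b := by linear_combination -hα
        rw [e0, e1, e2]; module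
      rw [← Bv.sum_repr x]
      simp only [Fin.sum_univ_three, hBj, Matrix.cons_val_zero, Matrix.cons_val_one,
        Matrix.cons_val, map_add, map_smul, LinearMap.add_apply, LinearMap.smul_apply]
      generalize Bv.repr x 0 = g0, Bv.repr x 1 = g1, Bv.repr x 2 = g2
      rw [show μ a (φ a) = 0 by rw [φa, hay], hbb, hcc]
      linear_combination (norm := module) (g0 * g1) • hab + (g0 * g2) • hac + (g1 * g2) • hbc
  · -- the compression
    push Not at hbij
    obtain ⟨x₀, hx₀⟩ : ∃ x, μ x y ≠ 0 := by
      by_contra h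
      push Not at h
      exact hy0 (hright y h)
    set u₁ := E 1 0 x₀
    set u₂ := E 2 0 x₀
    obtain ⟨g, hg1, hg2⟩ : ∃ g : V →ₗ[k] k, (∀ x, E 1 0 x = g x * u₁) ∧
        ∀ x, E 2 0 x = g x * u₂ := by
      by_cases hu : u₁ = 0
      · have hu2 : u₂ ≠ 0 := fun h0 => hx₀ (by
          rw [huy, show E 1 0 x₀ = 0 from hu, show E 2 0 x₀ = 0 from h0]; module)
        refine ⟨u₂⁻¹ • E 2 0, fun x => ?_, fun x => ?_⟩
        · rw [hu, mul_zero]
          have h := hbij x x₀
          rw [show E 1 0 x₀ = 0 from hu, zero_mul, sub_zero] at h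
          exact (mul_eq_zero.1 h).resolve_right hu2
        · rw [LinearMap.smul_apply, smul_eq_mul]; field_simp
      · refine ⟨u₁⁻¹ • E 1 0, fun x => ?_, fun x => ?_⟩
        · rw [LinearMap.smul_apply, smul_eq_mul]; field_simp
        · rw [LinearMap.smul_apply, smul_eq_mul]
          field_simp
          linear_combination -(hbij x x₀)
    have hgne : g ≠ 0 := fun h0 => hx₀ (by rw [huy, hg1, hg2, h0]; simp)
    have hr : ∀ x, E 0 1 x * u₁ + E 0 2 x * u₂ = 0 := by
      have h := eq_zero_or_eq_zero (f := g) (g := u₁ • E 0 1 + u₂ • E 0 2) fun x => by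
        have := hru x
        rw [hg1, hg2] at this
        simp only [LinearMap.add_apply, LinearMap.smul_apply, smul_eq_mul]
        linear_combination this
      intro x
      have h' := LinearMap.congr_fun (h.resolve_left hgne) x
      simp only [LinearMap.add_apply, LinearMap.smul_apply, smul_eq_mul,
        LinearMap.zero_apply] at h'
      linear_combination h'
    have hu0 : u₁ ≠ 0 ∨ u₂ ≠ 0 := by
      by_contra h
      push Not at h
      exact hx₀ (by rw [huy, show E 1 0 x₀ = 0 from h.1, show E 2 0 x₀ = 0 from h.2]; module)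
    obtain ⟨f, hf1, hf2⟩ : ∃ f : V →ₗ[k] k, (∀ x, E 0 1 x = -(u₂ * f x)) ∧
        ∀ x, E 0 2 x = u₁ * f x := by
      rcases hu0 with hu | hu
      · refine ⟨u₁⁻¹ • E 0 2, fun x => ?_, fun x => ?_⟩
        · rw [LinearMap.smul_apply, smul_eq_mul]; field_simp; linear_combination hr x
        · rw [LinearMap.smul_apply, smul_eq_mul]; field_simp
      · refine ⟨-(u₂⁻¹ • E 0 1), fun x => ?_, fun x => ?_⟩
        · rw [LinearMap.neg_apply, LinearMap.smul_apply, smul_eq_mul]; field_simp
        · rw [LinearMap.neg_apply, LinearMap.smul_apply, smul_eq_mul]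
          field_simp; linear_combination hr x
    have hfne : f ≠ 0 := fun h0 => hr0
      ⟨LinearMap.ext fun x => by rw [hf1, h0]; simp, LinearMap.ext fun x => by rw [hf2, h0]; simp⟩
    have hl : ∀ x, u₁ * (u₁ * E 2 1 x + u₂ * E 2 2 x) - u₂ * (u₁ * E 1 1 x + u₂ * E 1 2 x) = 0 := by
      have h := eq_zero_of_mul_mul (l := u₁ • (u₁ • E 2 1 + u₂ • E 2 2) -
          u₂ • (u₁ • E 1 1 + u₂ • E 1 2)) hfne hgne fun x => by
        have := hQ x
        rw [hg1, hg2, hf1, hf2] at this
        simp only [LinearMap.sub_apply, LinearMap.add_apply, LinearMap.smul_apply, smul_eq_mul]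
        linear_combination this
      intro x
      have h' := LinearMap.congr_fun h x
      simp only [LinearMap.sub_apply, LinearMap.add_apply, LinearMap.smul_apply, smul_eq_mul,
        LinearMap.zero_apply] at h'
      exact h'
    refine Or.inl ⟨y, u₁ • v1 + u₂ • v2, u₁ • μ a v1 + u₂ • μ a v2, ?_, fun x => ⟨?_, ?_⟩⟩
    · rw [LinearIndependent.pair_iff]
      intro s t hst
      have h0 := Fintype.linearIndependent_iff.1 hdom ![s, t * u₁, t * u₂] (by
        simp only [Fin.sum_univ_three, Matrix.cons_val_zero, Matrix.cons_val_one, Matrix.cons_val]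
        rw [← hst]; module)
      have k0 := h0 0
      have k1 := h0 1
      have k2 := h0 2
      simp at k0 k1 k2
      refine ⟨k0, ?_⟩
      rcases hu0 with hu | hu
      · exact k1.resolve_right hu
      · exact k2.resolve_right hu
    · refine Submodule.mem_span_singleton.2 ⟨g x, ?_⟩
      rw [huy, hg1, hg2]; module
    · have h0 : u₁ * E 0 1 x + u₂ * E 0 2 x = 0 := by linear_combination hr x
      have hval : μ x (u₁ • v1 + u₂ • v2) = (u₁ * E 1 1 x + u₂ * E 1 2 x) • μ a v1 +
          (u₁ * E 2 1 x + u₂ * E 2 2 x) • μ a v2 := by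
        rw [map_add, map_smul, map_smul, hexp (μ x v1), hexp (μ x v2)]
        show u₁ • (E 0 1 x • w + E 1 1 x • μ a v1 + E 2 1 x • μ a v2) +
          u₂ • (E 0 2 x • w + E 1 2 x • μ a v1 + E 2 2 x • μ a v2) = _
        linear_combination (norm := module) congrArg (fun s : k => s • w) h0
      rw [hval]
      have hlx := hl x
      rcases hu0 with hu | hu
      · refine Submodule.mem_span_singleton.2 ⟨(u₁ * E 1 1 x + u₂ * E 1 2 x) / u₁, ?_⟩
        rw [smul_add, smul_smul, smul_smul]
        congr 2 <;> field_simp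
        linear_combination -hlx
      · refine Submodule.mem_span_singleton.2 ⟨(u₁ * E 2 1 x + u₂ * E 2 2 x) / u₂, ?_⟩
        rw [smul_add, smul_smul, smul_smul]
        congr 2 <;> field_simp
        linear_combination hlx

end RankTwo

end H18.Local5
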