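import Cfsg.Agent.H18.Local5.Twist
import Cfsg.Agent.H18.Local5.Maps

/-!
# Commutators in the layers
-/

set_option autoImplicit false
set_option linter.unusedSectionVars false

namespace H18.Local5

universe u v

variable {k : Type u} [Field k] {A : Type v} [Ring A] [Algebra k A]

namespace Ctx

variable (S : Ctx k A)

/-- The span of the commutators. -/
def comm : Submodule k A :=
  Submodule.span k {z | ∃ a ∈ S.J, ∃ b ∈ S.J, z = a * b - b * a}

/-- The commutators of the algebra with a power. -/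
def commPow (q : ℕ) : Submodule k A :=
  Submodule.span k {z | ∃ a ∈ S.J, ∃ b ∈ S.J ^ q, z = a * b - b * a}

theorem bracket_mem {q : ℕ} {a b : A} (ha : a ∈ S.J) (hb : b ∈ S.J ^ q) :
    a * b - b * a ∈ S.commPow q := Submodule.subset_span ⟨a, ha, b, hb, rfl⟩

theorem commPow_le {q : ℕ} : S.commPow q ≤ S.J ^ (q + 1) := by
  rw [commPow, Submodule.span_le]
  rintro _ ⟨a, ha, b, hb, rfl⟩
  refine Submodule.sub_mem _ ?_ (S.mul_mem_pow hb (S.mem_one ha))
  have := S.mul_mem_pow (S.mem_one ha) hb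
  rwa [show 1 + q = q + 1 by omega] at this

theorem comm_le_sq : S.comm ≤ S.J ^ 2 := by
  rw [comm, Submodule.span_le, pow_two]
  rintro _ ⟨a, ha, b, hb, rfl⟩
  exact Submodule.sub_mem _ (Submodule.mul_mem_mul ha hb) (Submodule.mul_mem_mul hb ha)

theorem tau_comm_zero {z : A} (hz : z ∈ S.comm) : S.τ z = 0 := by
  have : S.comm ≤ LinearMap.ker S.τ := by
    rw [comm, Submodule.span_le]
    rintro _ ⟨a, -, b, -, rfl⟩
    rw [SetLike.mem_coe, LinearMap.mem_ker, map_sub, S.trace, sub_self]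
  exact this hz

theorem bracket_comb {r : ℕ} (e : Fin r → A) (x y : Fin r → k) :
    comb e x * comb e y - comb e y * comb e x =
      ∑ i, ∑ j, (x i * y j) • (e i * e j - e j * e i) := by
  simp only [comb_apply, Finset.sum_mul, Finset.mul_sum, smul_mul_assoc, mul_smul_comm, smul_smul,
    smul_sub, Finset.sum_sub_distrib, Finset.smul_sum]
  congr 1
  rw [Finset.sum_comm]
  exact Finset.sum_congr rfl fun i _ => Finset.sum_congr rfl fun j _ => by rw [mul_comm]

theorem comb_mem {r : ℕ} {e : Fin r → A} (he : ∀ i, e i ∈ S.J) (d : Fin r → k) :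
    comb e d ∈ S.J := by
  rw [comb_apply]
  exact Submodule.sum_mem _ fun i _ => Submodule.smul_mem _ _ (he i)

theorem exists_comb {r : ℕ} {e : Fin r → A} (hgen : S.J ≤ Submodule.span k (Set.range e) ⊔ S.J ^ 2)
    {a : A} (ha : a ∈ S.J) : ∃ d : Fin r → k, a - comb e d ∈ S.J ^ 2 := by
  obtain ⟨u, hu, v, hv, rfl⟩ := Submodule.mem_sup.1 (hgen ha)
  obtain ⟨d, rfl⟩ := (Submodule.mem_span_range_iff_exists_fun k).1 hu
  exact ⟨d, by rwa [comb_apply, add_sub_cancel_left]⟩

theorem spans_one_of_gen (h2 : 2 ≤ S.m) {r : ℕ} {e : Fin r → A}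
    (hgen : S.J ≤ Submodule.span k (Set.range e) ⊔ S.J ^ 2) : S.Spans 1 e := by
  rw [Spans, pow_one]
  exact hgen.trans (sup_le_sup_left (S.pow_le_N (by omega)) _)

/-- Commutators of generators and the commutators with the square give everything. -/
theorem comm_le {r : ℕ} {e : Fin r → A} (he : ∀ i, e i ∈ S.J)
    (hgen : S.J ≤ Submodule.span k (Set.range e) ⊔ S.J ^ 2) :
    S.comm ≤ Submodule.span k (Set.range fun p : Fin r × Fin r => e p.1 * e p.2 - e p.2 * e p.1) ⊔
      S.commPow 2 := by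
  rw [comm, Submodule.span_le]
  rintro _ ⟨a, ha, b, hb, rfl⟩
  obtain ⟨x, hx⟩ := S.exists_comb hgen ha
  obtain ⟨y, hy⟩ := S.exists_comb hgen hb
  have e1 : a * b - b * a = (comb e x * comb e y - comb e y * comb e x) +
      ((comb e x * (b - comb e y) - (b - comb e y) * comb e x) -
        (b * (a - comb e x) - (a - comb e x) * b)) := by noncomm_ring
  rw [SetLike.mem_coe, e1, bracket_comb]
  exact Submodule.add_mem_sup
    (Submodule.sum_mem _ fun i _ => Submodule.sum_mem _ fun j _ =>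
      Submodule.smul_mem _ _ (Submodule.subset_span ⟨(i, j), rfl⟩))
    (Submodule.sub_mem _ (S.bracket_mem (S.comb_mem he x) hy) (S.bracket_mem hb hx))

/-- Commutators modulo the second layer. -/
theorem comm_le_N (h2 : 2 ≤ S.m) {q : ℕ} {v : Fin q → A} (hmem : ∀ i, v i ∈ S.J)
    (hv : S.Spans 1 v) :
    S.comm ≤ Submodule.span k (Set.range fun p : Fin q × Fin q => v p.1 * v p.2 - v p.2 * v p.1) ⊔
      S.N 2 := by
  rw [comm, Submodule.span_le]
  rintro _ ⟨a, ha, b, hb, rfl⟩
  obtain ⟨x, hx⟩ := (S.spans_iff).1 hv a (S.mem_one ha)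
  obtain ⟨y, hy⟩ := (S.spans_iff).1 hv b (S.mem_one hb)
  rw [← comb_apply] at hx hy
  have e1 : a * b - b * a = (comb v x * comb v y - comb v y * comb v x) +
      ((comb v x * (b - comb v y) - (b - comb v y) * comb v x) -
        (b * (a - comb v x) - (a - comb v x) * b)) := by noncomm_ring
  rw [SetLike.mem_coe, e1, bracket_comb]
  exact Submodule.add_mem_sup
    (Submodule.sum_mem _ fun i _ => Submodule.sum_mem _ fun j _ =>
      Submodule.smul_mem _ _ (Submodule.subset_span ⟨(i, j), rfl⟩))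
    (Submodule.sub_mem _
      (Submodule.sub_mem _ (S.mul_N (by omega) hy (S.comb_mem hmem x))
        (S.N_mul (by omega) hy (S.comb_mem hmem x)))
      (Submodule.sub_mem _ (S.mul_N (by omega) hx hb) (S.N_mul (by omega) hx hb)))

/-- A layer on two vectors has a regular element below. -/
theorem exists_reg {r : ℕ} {e : Fin r → A} (he : S.Indep 1 e) (hmem : ∀ i, e i ∈ S.J) (hr : 2 ≤ r)
    {n : ℕ} (hn1 : 1 ≤ n) (hn : n + 2 ≤ S.m) {v : Fin 2 → A} (hv : S.Spans (n + 1) v) :
    ∃ a ∈ S.J, S.Reg a n := by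
  classical
  set Q := (S.N (n + 1)).mkQ with hQ
  by_contra hno
  push Not at hno
  have hQN : ∀ {z : A}, Q z = 0 ↔ z ∈ S.N (n + 1) := fun {z} => by
    rw [hQ, Submodule.mkQ_apply, Submodule.Quotient.mk_eq_zero]
  let μ : S.J →ₗ[k] ↥(S.J ^ n) →ₗ[k] A ⧸ S.N (n + 1) :=
    LinearMap.mk₂ k (fun a u => Q ((a : A) * (u : A)))
      (fun a a' u => by rw [Submodule.coe_add, add_mul, map_add])
      (fun c a u => by rw [Submodule.coe_smul, smul_mul_assoc, map_smul])
      (fun a u u' => by rw [Submodule.coe_add, mul_add, map_add])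
      (fun c a u => by rw [Submodule.coe_smul, mul_smul_comm, map_smul])
  set P := Submodule.span k (Set.range fun i => Q (v i)) with hP
  haveI : FiniteDimensional k P := FiniteDimensional.span_of_finite k (Set.finite_range _)
  have hPmem : ∀ z ∈ S.J ^ (n + 1), Q z ∈ P := fun z hz => by
    obtain ⟨c, hc⟩ := (S.spans_iff).1 hv z hz
    have h := hQN.2 hc
    rw [map_sub, sub_eq_zero, map_sum] at h
    rw [h]
    exact Submodule.sum_mem _ fun i _ => by
      rw [map_smul]; exact Submodule.smul_mem _ _ (Submodule.subset_span ⟨i, rfl⟩)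
  have hmul : ∀ (a : S.J) (u : ↥(S.J ^ n)), (a : A) * (u : A) ∈ S.J ^ (n + 1) := fun a u => by
    have := S.mul_mem_pow (S.mem_one a.2) u.2
    rwa [show 1 + n = n + 1 by omega] at this
  have hlines : ∀ a : S.J, ∃ z, ∀ u, μ a u ∈ Submodule.span k {z} := by
    intro a
    by_cases h0 : ∀ u, μ a u = 0
    · exact ⟨0, fun u => by rw [h0 u]; exact Submodule.zero_mem _⟩
    push Not at h0
    obtain ⟨u₀, hu₀⟩ := h0
    refine ⟨μ a u₀, fun u₁ => ?_⟩
    by_contra hu₁
    have hli : LinearIndependent k ![μ a u₀, μ a u₁] := (LinearIndependent.pair_iff' hu₀).2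
      fun c hc => hu₁ (Submodule.mem_span_singleton.2 ⟨c, hc⟩)
    refine hno a a.2 fun z hz => ?_
    have hsub : Submodule.span k (Set.range ![μ a u₀, μ a u₁]) ≤ P := by
      rw [Submodule.span_le]
      rintro _ ⟨i, rfl⟩
      fin_cases i
      · exact hPmem _ (hmul a u₀)
      · exact hPmem _ (hmul a u₁)
    have hPeq : Submodule.span k (Set.range ![μ a u₀, μ a u₁]) = P :=
      Submodule.eq_of_le_of_finrank_le hsub (by
        rw [finrank_span_eq_card hli]
        exact (finrank_range_le_card fun i => Q (v i)).trans_eq (by simp))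
    have hz' := hPmem z hz
    rw [← hPeq, Submodule.mem_span_range_iff_exists_fun] at hz'
    obtain ⟨c, hc⟩ := hz'
    simp only [Fin.sum_univ_two, Matrix.cons_val_zero, Matrix.cons_val_one] at hc
    have hc' : z - (a : A) * (c 0 • (u₀ : A) + c 1 • (u₁ : A)) ∈ S.N (n + 1) := by
      rw [← hQN, map_sub, mul_add, map_add, mul_smul_comm, mul_smul_comm, map_smul, map_smul,
        sub_eq_zero]
      exact hc.symm
    rw [← add_sub_cancel ((a : A) * (c 0 • (u₀ : A) + c 1 • (u₁ : A))) z]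
    exact Submodule.add_mem_sup ⟨_, Submodule.add_mem _ (Submodule.smul_mem _ _ u₀.2)
      (Submodule.smul_mem _ _ u₁.2), rfl⟩ hc'
  rcases rank_one_cases μ hlines with ⟨z, hz⟩ | ⟨u₀, hu₀⟩
  · -- one image
    by_cases hall : ∀ a u, μ a u = 0
    · refine S.not_pow_le_N (n := n + 1) (by omega) ?_
      rw [pow_succ']
      exact Submodule.mul_le.2 fun a ha u hu => hQN.1 (hall ⟨a, ha⟩ ⟨u, hu⟩)
    push Not at hall
    obtain ⟨a, u, hau⟩ := hall
    refine S.not_spans_one he hmem hr (n := n + 1) (by omega) (by omega) ((a : A) * u) ?_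
    show S.J ^ (n + 1) ≤ _
    rw [pow_succ']
    refine Submodule.mul_le.2 fun b hb x hx => ?_
    obtain ⟨c₀, hc₀⟩ := Submodule.mem_span_singleton.1 (hz a u)
    obtain ⟨c₁, hc₁⟩ := Submodule.mem_span_singleton.1 (hz ⟨b, hb⟩ ⟨x, hx⟩)
    have hc0 : c₀ ≠ 0 := fun h => hau (by rw [← hc₀, h, zero_smul])
    have hm : b * x - (c₁ / c₀) • ((a : A) * u) ∈ S.N (n + 1) := by
      rw [← hQN, map_sub, map_smul, show Q (b * x) = c₁ • z from hc₁.symm,
        show Q ((a : A) * u) = c₀ • z from hc₀.symm, smul_smul, div_mul_cancel₀ _ hc0, sub_self]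
    rw [← add_sub_cancel ((c₁ / c₀) • ((a : A) * u)) (b * x)]
    exact Submodule.add_mem_sup (Submodule.smul_mem _ _ (Submodule.subset_span ⟨0, rfl⟩)) hm
  · -- one kernel
    refine S.not_spans_one he hmem hr hn1 (by omega) (u₀ : A) ?_
    refine (S.spans_iff).2 fun z hz => ?_
    obtain ⟨c, hc⟩ := hu₀ ⟨z, hz⟩
    refine ⟨fun _ => c, S.mem_N_of_mul (by omega) fun b hb => ?_⟩
    have h := hQN.1 (hc ⟨b, hb⟩)
    simpa using h

end Ctx

/-- Vanishing minors give proportionality. -/
theorem exists_smul_of_minors {r : ℕ} {o v : Fin r → k} (ho : o ≠ 0)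
    (h : ∀ i j, o i * v j = o j * v i) : ∃ t : k, v = t • o := by
  obtain ⟨i, hi⟩ := Function.ne_iff.1 ho
  refine ⟨v i / o i, funext fun j => ?_⟩
  have hi' : o i ≠ 0 := hi
  rw [Pi.smul_apply, smul_eq_mul, div_mul_eq_mul_div, eq_div_iff hi']
  linear_combination h i j

end H18.Local5
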