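import Cfsg.Agent.H18.Local5.Brackets

/-!
# Three generators force Loewy length three
-/

set_option autoImplicit false
set_option linter.unusedSectionVars false

namespace H18.Local5

universe u v

variable {k : Type u} [Field k] [IsAlgClosed k] {A : Type v} [Ring A] [Algebra k A]

namespace Ctx

variable (S : Ctx k A)

/-- The three commutators of three elements. -/
def brk (e : Fin 3 → A) : Fin 3 → A :=
  ![e 0 * e 1 - e 1 * e 0, e 0 * e 2 - e 2 * e 0, e 1 * e 2 - e 2 * e 1]

theorem bracket_mem_brk (e : Fin 3 → A) (i j : Fin 3) :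
    e i * e j - e j * e i ∈ Submodule.span k (Set.range (brk e)) := by
  have h : ∀ l : Fin 3, brk e l ∈ Submodule.span k (Set.range (brk e)) := fun l =>
    Submodule.subset_span ⟨l, rfl⟩
  have hn : ∀ l : Fin 3, -brk e l ∈ Submodule.span k (Set.range (brk e)) := fun l =>
    Submodule.neg_mem _ (h l)
  fin_cases i <;> fin_cases j
  all_goals
    first
      | (simp only [sub_self]; exact Submodule.zero_mem _)
      | simpa [brk] using h 0
      | simpa [brk] using h 1
      | simpa [brk] using h 2
      | simpa [brk] using hn 0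
      | simpa [brk] using hn 1
      | simpa [brk] using hn 2

theorem bracket_brk (e : Fin 3 → A) (x y : Fin 3 → k) :
    comb e x * comb e y - comb e y * comb e x =
      ∑ l, ![x 0 * y 1 - x 1 * y 0, x 0 * y 2 - x 2 * y 0, x 1 * y 2 - x 2 * y 1] l • brk e l := by
  rw [bracket_comb]
  simp only [brk, Fin.sum_univ_three, Matrix.cons_val_zero, Matrix.cons_val_one, Matrix.cons_val]
  module

section

variable {e : Fin 3 → A} (hgen : S.J ≤ Submodule.span k (Set.range e) ⊔ S.J ^ 2)
  (hmem : ∀ i, e i ∈ S.J) {s : A} (hs : s ∈ S.J ^ S.m)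
  (hsq : S.J ^ 2 ≤ S.comm ⊔ Submodule.span k {s}) (hm : 4 ≤ S.m)

include hs hm in
theorem socle_mem_N {n : ℕ} (hn : n ≤ 3) : s ∈ S.N n :=
  S.pow_le_N (show n < S.m by omega) hs

include hs hsq hm in
theorem not_spans_one_one (a : A) (ha : a ∈ S.J) : ¬ S.Spans 1 ![a] := by
  intro h
  refine S.not_pow_le_N (n := 2) (by omega) (hsq.trans (sup_le ?_
    ((Submodule.span_singleton_le_iff_mem _ _).2 (S.socle_mem_N hs hm (by omega)))))
  refine (S.comm_le_N (by omega) (fun i => by simpa using ha) h).trans (sup_le ?_ le_rfl)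
  rw [Submodule.span_le]
  rintro _ ⟨⟨i, j⟩, rfl⟩
  simp [Fin.fin_one_eq_zero]

include hgen hmem hs hsq hm in
theorem indep_one : S.Indep 1 e := by
  have hsp := S.spans_one_of_gen (by omega) hgen
  intro g hg
  by_contra hne
  obtain ⟨i, hi⟩ := Function.ne_iff.1 hne
  -- two of the generators span
  set w : Fin 2 → A := fun j => e (i.succAbove j)
  have hw : ∀ j, w j ∈ S.J := fun j => hmem _
  have hvw : S.Spans 1 w := S.exists_drop hsp hg hi
  have hwi : S.Indep 1 w := by
    intro c hc
    by_contra hc0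
    obtain ⟨l, hl⟩ := Function.ne_iff.1 hc0
    have h1 := S.exists_drop hvw hc hl
    refine S.not_spans_one_one hs hsq hm _ (hw (l.succAbove 0)) ?_
    rwa [show (fun j => w (l.succAbove j)) = ![w (l.succAbove 0)] from
      funext fun j => by rw [Fin.fin_one_eq_zero j]; rfl] at h1
  refine S.not_spans_one hwi hw le_rfl (n := 2) (by omega) (by omega) (w 0 * w 1 - w 1 * w 0) ?_
  refine hsq.trans (sup_le ?_ ((Submodule.span_singleton_le_iff_mem _ _).2
    (Submodule.mem_sup_right (S.socle_mem_N hs hm (by omega)))))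
  refine (S.comm_le_N (by omega) hw hvw).trans (sup_le_sup_right ?_ _)
  rw [Submodule.span_le]
  rintro _ ⟨⟨i, j⟩, rfl⟩
  rw [SetLike.mem_coe, Submodule.mem_span_range_iff_exists_fun]
  fin_cases i <;> fin_cases j
  · exact ⟨0, by simp⟩
  · exact ⟨1, by simp⟩
  · exact ⟨-1, by simp⟩
  · exact ⟨0, by simp⟩

include hgen hmem hs hsq hm in
theorem spans_two : S.Spans 2 (brk e) := by
  refine hsq.trans (sup_le ?_ ((Submodule.span_singleton_le_iff_mem _ _).2
    (Submodule.mem_sup_right (S.socle_mem_N hs hm (by omega)))))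
  refine (S.comm_le_N (by omega) hmem (S.spans_one_of_gen (by omega) hgen)).trans
    (sup_le_sup_right ?_ _)
  rw [Submodule.span_le]
  rintro _ ⟨⟨i, j⟩, rfl⟩
  exact bracket_mem_brk e i j

include hgen hmem hs hsq hm in
theorem not_spans_two {n : ℕ} (hn1 : 1 ≤ n) (hn : n + 2 ≤ S.m) (v : Fin 2 → A) :
    ¬ S.Spans (n + 1) v := by
  intro hv
  have hind := S.indep_one hgen hmem hs hsq hm
  obtain ⟨a, ha, hreg⟩ := S.exists_reg hind hmem (by omega) hn1 hn hv
  exact S.not_spans_reg hind hmem (by omega) ha hreg (Nat.le_succ n) (by omega) v hv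

include hgen hmem hs hsq hm in
theorem indep_two : S.Indep 2 (brk e) :=
  S.indep_of_spans (S.spans_two hgen hmem hs hsq hm)
    (S.not_spans_two hgen hmem hs hsq hm le_rfl (by omega))

include hgen hmem hs hsq hm in
theorem minors {x y : Fin 3 → k} (hx : x ≠ 0)
    (h : comb e x * comb e y - comb e y * comb e x ∈ S.N 2) : ∃ t : k, y = t • x := by
  rw [bracket_brk] at h
  have h' := S.indep_two hgen hmem hs hsq hm _ h
  have h0 := congrFun h' 0
  have h1 := congrFun h' 1
  have h2 := congrFun h' 2
  simp at h0 h1 h2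
  refine exists_smul_of_minors hx fun i j => ?_
  fin_cases i <;> fin_cases j <;> simp
  all_goals first
    | rfl
    | linear_combination h0
    | linear_combination -h0
    | linear_combination h1
    | linear_combination -h1
    | linear_combination h2
    | linear_combination -h2

include hgen hmem hs hsq hm in
/-- A regular generator leads to a contradiction. -/
theorem false_of_regular {a : A} (ha : a ∈ S.J) (hreg : S.Reg a 1) : False := by
  have hind := S.indep_one hgen hmem hs hsq hm
  have hsp := S.spans_one_of_gen (by omega) hgen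
  obtain ⟨o, ho⟩ := (S.spans_iff).1 hsp a (S.mem_one ha)
  rw [← comb_apply] at ho
  have ho0 : o ≠ 0 := by
    intro h0
    rw [h0, map_zero, sub_zero] at ho
    refine S.not_pow_le_N (n := 2) (by omega) ?_
    intro z hz
    obtain ⟨_, ⟨u, hu, rfl⟩, r, hr, rfl⟩ := Submodule.mem_sup.1 (hreg hz)
    rw [pow_one] at hu
    exact Submodule.add_mem _ (S.N_mul (by omega) ho hu) hr
  let F : Frame S 2 :=
    { e := e
      a := a
      hm := hm
      mem := hmem
      ind := hind
      sp := hsp
      ha := ha
      reg := hreg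
      sp2 := ⟨brk e, S.spans_two hgen hmem hs hsq hm⟩
      hbr := fun v hv => by
        have h' : comb e o * comb e v - comb e v * comb e o ∈ S.N 2 := by
          have := Submodule.sub_mem _ hv (Submodule.sub_mem _
            (S.N_mul (show 1 < S.m by omega) ho (S.comb_mem hmem v))
            (S.mul_N (show 1 < S.m by omega) ho (S.comb_mem hmem v)))
          convert this using 1
          noncomm_ring
        obtain ⟨t, rfl⟩ := S.minors hgen hmem hs hsq hm ho0 h'
        refine ⟨t, ?_⟩
        rw [map_smul, ← smul_sub]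
        exact Submodule.smul_mem _ _ (by simpa using Submodule.neg_mem _ ho) }
  have h3 := fun x => F.alg.sigma_cube (by simp) x
  have hm' := fun x => F.sig_pow_m (F.alg.comm_three (by simp)) x
  have hσ : ∀ x, F.sig^[S.m - 3] x = x := fun x => by
    have h := hm' x
    rw [show S.m = S.m - 3 + 3 by omega, Function.iterate_add_apply] at h
    rwa [show F.sig^[3] x = x from h3 x] at h
  obtain ⟨v, hv⟩ := F.exists_eps_ne
  apply hv
  set z := comb e v * a * a with hz
  have hz3 : z ∈ S.J ^ 3 :=
    S.mul_mem_pow (S.mul_mem_pow (S.mem_one (S.comb_mem hmem v)) (S.mem_one ha)) (S.mem_one ha)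
  have hkill : ∀ b ∈ S.comm, b ∈ S.J ^ 3 → S.τ (b * a ^ (S.m - 3)) = 0 := by
    intro b hb hb3
    obtain ⟨u, hu, w, hw, rfl⟩ := Submodule.mem_sup.1 (S.comm_le hmem hgen hb)
    have hu' : u ∈ Submodule.span k (Set.range (brk e)) := by
      refine Submodule.span_le.2 ?_ hu
      rintro _ ⟨⟨i, j⟩, rfl⟩
      exact bracket_mem_brk e i j
    obtain ⟨g, rfl⟩ := (Submodule.mem_span_range_iff_exists_fun k).1 hu'
    have hg : g = 0 := S.indep_two hgen hmem hs hsq hm g (S.pow_le_N (show 2 < 3 by omega) (by
      simpa using Submodule.sub_mem _ hb3 (S.commPow_le hw)))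
    rw [hg]
    simp only [Pi.zero_apply, zero_smul, Finset.sum_const_zero, zero_add]
    refine Submodule.span_induction ?_ (by rw [zero_mul, map_zero]) (fun x y _ _ hx hy => ?_)
      (fun c x _ hx => ?_) hw
    · rintro _ ⟨c, hc, d, hd, rfl⟩
      obtain ⟨x, hx⟩ := S.exists_comb hgen hc
      exact F.tau_bracket (q := 2) (by omega) hσ hx hd
    · rw [add_mul, map_add, hx, hy, add_zero]
    · rw [smul_mul_assoc, map_smul, hx, smul_zero]
  obtain ⟨b, hb, t, ht, hbt⟩ := Submodule.mem_sup.1 (hsq (S.pow_anti (by omega) (by omega) hz3))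
  obtain ⟨c, rfl⟩ := Submodule.mem_span_singleton.1 ht
  have hs3 : s ∈ S.J ^ 3 := S.pow_anti (by omega) (by omega) hs
  have hb3 : b ∈ S.J ^ 3 := by
    have := Submodule.sub_mem _ hz3 (Submodule.smul_mem _ c hs3)
    rwa [← hbt, add_sub_cancel_right] at this
  have hsz : s * a ^ (S.m - 3) = 0 :=
    S.eq_zero_of_lt (show S.m < S.m + (S.m - 3) by omega) (S.mul_mem_pow hs (S.pow_mem ha _))
  have h0 : S.τ (z * a ^ (S.m - 3)) = 0 := by
    rw [← hbt, add_mul, smul_mul_assoc, hsz, smul_zero, add_zero]
    exact hkill b hb hb3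
  rw [hz, mul_assoc, mul_assoc, ← mul_assoc a a, ← pow_two, ← pow_add,
    show 2 + (S.m - 3) = S.m - 1 by omega] at h0
  exact h0

include hgen hmem hs hsq hm in
theorem false_of_gen_three : False := by
  classical
  by_cases hreg : ∃ a ∈ S.J, S.Reg a 1
  · obtain ⟨a, ha, hr⟩ := hreg
    exact S.false_of_regular hgen hmem hs hsq hm ha hr
  push Not at hreg
  have hind := S.indep_one hgen hmem hs hsq hm
  have hi2 := S.indep_two hgen hmem hs hsq hm
  have hs1 := S.spans_one_of_gen (by omega) hgen
  have hs2 := S.spans_two hgen hmem hs hsq hm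
  obtain ⟨c, hc0, hcd, hc⟩ := S.exists_coord hi2
  have hc' := hc hs2
  have hprod : ∀ x y : Fin 3 → k, comb e x * comb e y ∈ S.J ^ 2 := fun x y => by
    rw [pow_two]
    exact Submodule.mul_mem_mul (S.comb_mem hmem x) (S.comb_mem hmem y)
  let μ : (Fin 3 → k) →ₗ[k] (Fin 3 → k) →ₗ[k] (Fin 3 → k) :=
    LinearMap.mk₂ k (fun x y => c (comb e x * comb e y))
      (fun x x' y => by rw [map_add, add_mul, map_add])
      (fun t x y => by rw [map_smul, smul_mul_assoc, map_smul])
      (fun x y y' => by rw [map_add, mul_add, map_add])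
      (fun t x y => by rw [map_smul, mul_smul_comm, map_smul])
  have hμ : ∀ x y, comb e x * comb e y - comb (brk e) (μ x y) ∈ S.N 2 := fun x y => by
    rw [comb_apply (brk e)]
    exact hc' _ (hprod x y)
  have hsing : ∀ x, ∃ y ≠ 0, μ x y = 0 := by
    intro x
    by_contra hno
    push Not at hno
    have hinj : Function.Injective (μ x) := by
      rw [← LinearMap.ker_eq_bot, LinearMap.ker_eq_bot']
      intro y hy
      by_contra h
      exact hno y h hy
    refine hreg _ (S.comb_mem hmem x) fun z hz => ?_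
    obtain ⟨y, hy⟩ := LinearMap.injective_iff_surjective.1 hinj (c z)
    have h := Submodule.sub_mem _ (hc' z hz) (hμ x y)
    rw [hy, comb_apply (brk e), sub_sub_sub_cancel_right] at h
    rw [← add_sub_cancel (comb e x * comb e y) z]
    exact Submodule.add_mem_sup ⟨_, S.mem_one (S.comb_mem hmem y), rfl⟩ h
  have hright : ∀ y, (∀ x, μ x y = 0) → y = 0 := by
    intro y hy
    refine hind y ?_
    rw [← comb_apply]
    refine S.mem_N_of_mul (by omega) fun b hb => ?_
    obtain ⟨x, hx⟩ := (S.spans_iff).1 hs1 b (S.mem_one hb)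
    rw [← comb_apply] at hx
    have h := hμ x y
    rw [hy, map_zero, sub_zero] at h
    have := Submodule.add_mem _ h (S.N_mul (show 1 < S.m by omega) hx (S.comb_mem hmem y))
    convert this using 1
    noncomm_ring
  have hspan : ∀ f : (Fin 3 → k) →ₗ[k] k, (∀ x y, f (μ x y) = 0) → f = 0 := by
    intro f hf
    have hcomb : ∀ i, comb e (Pi.single i (1 : k)) = e i := fun i => by
      simp [comb_apply, Pi.single_apply]
    have hb : ∀ i j, f (c (e i * e j - e j * e i)) = 0 := fun i j => by
      rw [map_sub, map_sub, ← hcomb i, ← hcomb j]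
      exact sub_eq_zero.2 ((hf (Pi.single i (1 : k)) (Pi.single j (1 : k))).trans
        (hf (Pi.single j (1 : k)) (Pi.single i (1 : k))).symm)
    refine (Pi.basisFun k (Fin 3)).ext fun l => ?_
    rw [Pi.basisFun_apply, LinearMap.zero_apply]
    have hl : c (brk e l) = Pi.single l (1 : k) := by
      have := hcd (Pi.single l (1 : k))
      simpa [Pi.single_apply] using this
    rw [← hl]
    fin_cases l
    · exact hb 0 1
    · exact hb 0 2
    · exact hb 1 2
  have hμN : ∀ {x y : Fin 3 → k} {v : A} {d : Fin 3 → k} {t : k}, μ x y = t • d →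
      comb (brk e) d = v → comb e x * comb e y - t • v ∈ S.N 2 := fun {x y v d t} h1 h2 => by
    have := hμ x y
    rwa [h1, map_smul, h2] at this
  rcases rank_two_cases (by simp) μ hsing hright hspan with ⟨p, q, z, hpq, hz⟩ | ⟨φ, hφ, hφ0⟩
  · -- compression
    set Z := comb (brk e) z with hZ
    have hP : ∀ x : Fin 3 → k, ∀ w, w = p ∨ w = q →
        ∃ t : k, comb e x * comb e w - t • Z ∈ S.N 2 := by
      intro x w hw
      rcases hw with rfl | rfl
      · obtain ⟨t, ht⟩ := Submodule.mem_span_singleton.1 (hz x).1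
        exact ⟨t, hμN ht.symm rfl⟩
      · obtain ⟨t, ht⟩ := Submodule.mem_span_singleton.1 (hz x).2
        exact ⟨t, hμN ht.symm rfl⟩
    obtain ⟨r, hr⟩ := exists_linearIndependent_cons_of_lt_finrank hpq (by simp)
    set C := basisOfLinearIndependentOfCardEqFinrank hr (by simp) with hC
    have hexp : ∀ w, ∃ a b g : k, w = g • r + a • p + b • q := fun w =>
      ⟨C.repr w 1, C.repr w 2, C.repr w 0, by
        conv_lhs => rw [← C.sum_repr w]
        simp [hC, Fin.sum_univ_three]⟩
    set T := Submodule.span k ({Z, comb e p * comb e r, comb e q * comb e r} : Set A) ⊔ S.N 2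
      with hT
    have hTZ : ∀ x w, w = p ∨ w = q → comb e x * comb e w ∈ T := fun x w hw => by
      obtain ⟨t, ht⟩ := hP x w hw
      rw [← add_sub_cancel (t • Z) (comb e x * comb e w)]
      exact Submodule.add_mem_sup (Submodule.smul_mem _ _ (Submodule.subset_span (by simp))) ht
    have hTp : comb e p * comb e r ∈ T := Submodule.mem_sup_left (Submodule.subset_span (by simp))
    have hTq : comb e q * comb e r ∈ T := Submodule.mem_sup_left (Submodule.subset_span (by simp))
    have hG2 : S.J ^ 2 ≤ T := by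
      refine hs2.trans (sup_le ?_ le_sup_right)
      rw [Submodule.span_le]
      have hall : ∀ x y : Fin 3 → k, comb e x * comb e y - comb e y * comb e x ∈ T := by
        intro x y
        obtain ⟨a₁, b₁, g₁, rfl⟩ := hexp x
        obtain ⟨a₂, b₂, g₂, rfl⟩ := hexp y
        have h1 : comb e p * comb e q - comb e q * comb e p ∈ T :=
          Submodule.sub_mem _ (hTZ p q (Or.inr rfl)) (hTZ q p (Or.inl rfl))
        have h2 : comb e p * comb e r - comb e r * comb e p ∈ T :=
          Submodule.sub_mem _ hTp (hTZ r p (Or.inl rfl))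
        have h3 : comb e q * comb e r - comb e r * comb e q ∈ T :=
          Submodule.sub_mem _ hTq (hTZ r q (Or.inr rfl))
        have := Submodule.add_mem _ (Submodule.smul_mem _ (a₁ * b₂ - b₁ * a₂) h1)
          (Submodule.add_mem _ (Submodule.smul_mem _ (a₁ * g₂ - g₁ * a₂) h2)
            (Submodule.smul_mem _ (b₁ * g₂ - g₁ * b₂) h3))
        convert this using 1
        simp only [map_add, map_smul, mul_add, add_mul, smul_mul_assoc, mul_smul_comm, smul_sub,
          smul_smul]
        module
      have hcomb : ∀ i, comb e (Pi.single i (1 : k)) = e i := fun i => by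
        simp [comb_apply, Pi.single_apply]
      rintro _ ⟨l, rfl⟩
      fin_cases l
      · simpa [brk, hcomb] using hall (Pi.single 0 (1 : k)) (Pi.single 1 (1 : k))
      · simpa [brk, hcomb] using hall (Pi.single 0 (1 : k)) (Pi.single 2 (1 : k))
      · simpa [brk, hcomb] using hall (Pi.single 1 (1 : k)) (Pi.single 2 (1 : k))
    obtain ⟨u, v, hu, hv, lam, hlam, huv⟩ : ∃ u v, (u = p ∨ u = q) ∧ (v = p ∨ v = q) ∧
        ∃ lam : k, lam ≠ 0 ∧ comb e u * comb e v - lam • Z ∈ S.N 2 := by
      by_contra hno
      push Not at hno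
      have h0 : ∀ u v, (u = p ∨ u = q) → (v = p ∨ v = q) → comb e u * comb e v ∈ S.N 2 := by
        intro u v hu hv
        obtain ⟨t, ht⟩ := hP u v hv
        by_cases ht0 : t = 0
        · rwa [ht0, zero_smul, sub_zero] at ht
        · exact absurd ht (hno u v hu hv t ht0)
      obtain ⟨t, ht⟩ := S.minors hgen hmem hs hsq hm (fun h => hpq.ne_zero 0 (by simpa using h))
        (Submodule.sub_mem _ (h0 p q (Or.inl rfl) (Or.inr rfl)) (h0 q p (Or.inr rfl) (Or.inl rfl)))
      have := (LinearIndependent.pair_iff.1 hpq) t (-1) (by rw [ht]; module)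
      exact neg_ne_zero.2 one_ne_zero this.2
    refine S.not_spans_two hgen hmem hs hsq hm (n := 2) (by omega) (by omega)
      ![Z * comb e v, Z * comb e r] ?_
    show S.J ^ (2 + 1) ≤ _
    set P₃ := Submodule.span k (Set.range ![Z * comb e v, Z * comb e r]) ⊔ S.N 3
    have hZv : Z * comb e v ∈ P₃ := Submodule.mem_sup_left (Submodule.subset_span ⟨0, rfl⟩)
    have hZr : Z * comb e r ∈ P₃ := Submodule.mem_sup_left (Submodule.subset_span ⟨1, rfl⟩)
    have hstep : ∀ x w : Fin 3 → k, w = p ∨ w = q → ∀ b : Fin 3 → k, Z * comb e b ∈ P₃ →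
        comb e x * comb e w * comb e b ∈ P₃ := by
      intro x w hw b hb
      obtain ⟨t, ht⟩ := hP x w hw
      have := Submodule.add_mem _ (Submodule.smul_mem P₃ t hb) (Submodule.mem_sup_right
        (S.N_mul (show 2 < S.m by omega) ht (S.comb_mem hmem b)))
      convert this using 1
      simp only [sub_mul, smul_mul_assoc]
      abel
    have hxZ : ∀ x : Fin 3 → k, comb e x * Z ∈ P₃ := by
      intro x
      have h1 := Submodule.sub_mem _ (Submodule.smul_mem P₃ lam⁻¹ (hstep x u hu v hZv))
        (Submodule.smul_mem P₃ lam⁻¹ (Submodule.mem_sup_right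
          (S.mul_N (show 2 < S.m by omega) huv (S.comb_mem hmem x))))
      convert h1 using 1
      rw [← smul_sub, mul_sub, mul_smul_comm, ← mul_assoc, sub_sub_cancel, smul_smul,
        inv_mul_cancel₀ hlam, one_smul]
    rw [pow_succ']
    refine Submodule.mul_le.2 fun b hb z' hz' => ?_
    obtain ⟨x, hx⟩ := (S.spans_iff).1 hs1 b (S.mem_one hb)
    rw [← comb_apply] at hx
    obtain ⟨g, hg, n, hn, rfl⟩ := Submodule.mem_sup.1 (hG2 hz')
    obtain ⟨a₁, a₂, a₃, rfl⟩ : ∃ a₁ a₂ a₃ : k, g = a₁ • Z + a₂ • (comb e p * comb e r) +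
        a₃ • (comb e q * comb e r) := by
      obtain ⟨a₁, g', hg', rfl⟩ := Submodule.mem_span_insert.1 hg
      obtain ⟨a₂, g'', hg'', rfl⟩ := Submodule.mem_span_insert.1 hg'
      obtain ⟨a₃, rfl⟩ := Submodule.mem_span_singleton.1 hg''
      exact ⟨a₁, a₂, a₃, by abel⟩
    have hgJ : a₁ • Z + a₂ • (comb e p * comb e r) + a₃ • (comb e q * comb e r) ∈ S.J ^ 2 := by
      refine Submodule.add_mem _ (Submodule.add_mem _ (Submodule.smul_mem _ _ ?_)
        (Submodule.smul_mem _ _ (hprod p r))) (Submodule.smul_mem _ _ (hprod q r))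
      rw [hZ, comb_apply]
      refine Submodule.sum_mem _ fun l _ => Submodule.smul_mem _ _ ?_
      rw [pow_two]
      have hbm : ∀ i j, e i * e j - e j * e i ∈ S.J * S.J := fun i j => Submodule.sub_mem _
        (Submodule.mul_mem_mul (hmem i) (hmem j)) (Submodule.mul_mem_mul (hmem j) (hmem i))
      fin_cases l
      · exact hbm 0 1
      · exact hbm 0 2
      · exact hbm 1 2
    have h2 := Submodule.add_mem P₃ (Submodule.add_mem P₃
      (Submodule.add_mem P₃ (Submodule.smul_mem P₃ a₁ (hxZ x))
        (Submodule.add_mem P₃ (Submodule.smul_mem P₃ a₂ (hstep x p (Or.inl rfl) r hZr))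
          (Submodule.smul_mem P₃ a₃ (hstep x q (Or.inr rfl) r hZr))))
      (Submodule.mem_sup_right (S.N_mul_pow (n := 1) (j := 2) (by omega) hx hgJ)))
      (Submodule.mem_sup_right (S.mul_N (show 2 < S.m by omega) hn hb))
    convert h2 using 1
    simp only [mul_add, mul_smul_comm, sub_mul, mul_assoc]
    module
  · -- skew
    have hφs : Function.Surjective φ := LinearMap.injective_iff_surjective.1 hφ
    let f : Fin 3 → Fin 3 → A := fun i j =>
      comb e (Pi.single i (1 : k)) * comb e (φ (Pi.single j (1 : k)))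
    let h : Fin 3 → A := fun l => comb e (φ (φ (Pi.single l (1 : k))))
    have hanti : ∀ x y, comb e x * comb e (φ y) + comb e y * comb e (φ x) ∈ S.N 2 := by
      intro x y
      have h0 : μ x (φ y) + μ y (φ x) = 0 := by
        have := hφ0 (x + y)
        simpa [hφ0 x, hφ0 y, add_comm] using this
      have := Submodule.add_mem _ (hμ x (φ y)) (hμ y (φ x))
      rwa [sub_add_sub_comm, ← map_add, h0, map_zero, sub_zero] at this
    have hdiag : ∀ x, comb e x * comb e (φ x) ∈ S.N 2 := fun x => by
      have := hμ x (φ x)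
      rwa [hφ0, map_zero, sub_zero] at this
    have hexp : ∀ w : Fin 3 → k, w = ∑ i, w i • (Pi.single i (1 : k) : Fin 3 → k) := fun w => by
      ext j; simp [Pi.single_apply]
    -- the products in degree two and three
    have hG2 : S.J ^ 2 ≤ Submodule.span k (Set.range fun p : Fin 3 × Fin 3 => f p.1 p.2) ⊔
        S.N 2 := by
      refine hs2.trans (sup_le ?_ le_sup_right)
      rw [Submodule.span_le]
      have hall : ∀ x y : Fin 3 → k, comb e x * comb e y ∈
          Submodule.span k (Set.range fun p : Fin 3 × Fin 3 => f p.1 p.2) := by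
        intro x y
        obtain ⟨y, rfl⟩ := hφs y
        rw [hexp x, hexp y]
        simp only [map_sum, map_smul, Finset.sum_mul, Finset.mul_sum, smul_mul_assoc, mul_smul_comm]
        exact Submodule.sum_mem _ fun i _ => Submodule.smul_mem _ _ (Submodule.sum_mem _ fun j _ =>
          Submodule.smul_mem _ _ (Submodule.subset_span ⟨(_, _), rfl⟩))
      have hcomb : ∀ i, comb e (Pi.single i (1 : k)) = e i := fun i => by
        simp [comb_apply, Pi.single_apply]
      have hb : ∀ i j, e i * e j - e j * e i ∈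
          Submodule.span k (Set.range fun p : Fin 3 × Fin 3 => f p.1 p.2) := fun i j => by
        rw [← hcomb i, ← hcomb j]
        exact Submodule.sub_mem _ (hall _ _) (hall _ _)
      rintro _ ⟨l, rfl⟩
      refine Submodule.mem_sup_left ?_
      fin_cases l
      · exact hb 0 1
      · exact hb 0 2
      · exact hb 1 2
    set P₃ := Submodule.span k {f 0 1 * h 2} ⊔ S.N 3 with hP₃
    have hd1 : ∀ i l, f i i * h l ∈ P₃ := fun i l => Submodule.mem_sup_right
      (S.N_mul (show 2 < S.m by omega) (hdiag (Pi.single i (1 : k))) (S.comb_mem hmem _))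
    have hd2 : ∀ i j, f i j * h j ∈ P₃ := fun i j => by
      show comb e _ * comb e _ * comb e _ ∈ P₃
      rw [mul_assoc]
      exact Submodule.mem_sup_right
        (S.mul_N (show 2 < S.m by omega) (hdiag _) (S.comb_mem hmem _))
    have hsw1 : ∀ {i j l}, f i j * h l ∈ P₃ → f j i * h l ∈ P₃ := by
      intro i j l hm'
      have := Submodule.sub_mem _ (Submodule.mem_sup_right (S.N_mul (show 2 < S.m by omega)
        (hanti (Pi.single i (1 : k)) (Pi.single j (1 : k))) (S.comb_mem hmem (φ (φ (Pi.single l (1 : k)))))) :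
          _ ∈ P₃) hm'
      simpa [f, h, add_mul] using this
    have hsw2 : ∀ {i j l}, f i j * h l ∈ P₃ → f i l * h j ∈ P₃ := by
      intro i j l hm'
      have := Submodule.sub_mem _ (Submodule.mem_sup_right (S.mul_N (show 2 < S.m by omega)
        (hanti (φ (Pi.single j (1 : k))) (φ (Pi.single l (1 : k)))) (S.comb_mem hmem (Pi.single i (1 : k)))) :
          _ ∈ P₃) hm'
      convert this using 1
      simp only [f, h, mul_add, mul_assoc]
      abel
    have hbase : f 0 1 * h 2 ∈ P₃ :=
      Submodule.mem_sup_left (Submodule.mem_span_singleton_self _)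
    have hall : ∀ i j l, f i j * h l ∈ P₃ := by
      intro i j l
      fin_cases i <;> fin_cases j <;> fin_cases l
      all_goals first
        | exact hd1 _ _
        | exact hd2 _ _
        | exact hsw1 (hd2 _ _)
        | exact hbase
        | exact hsw1 hbase
        | exact hsw2 hbase
        | exact hsw1 (hsw2 hbase)
        | exact hsw2 (hsw1 hbase)
        | exact hsw1 (hsw2 (hsw1 hbase))
    refine S.not_spans_one hind hmem (by omega) (n := 2 + 1) (by omega) (by omega)
      (f 0 1 * h 2) ?_
    show S.J ^ (2 + 1) ≤ _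
    rw [show Set.range ![f 0 1 * h 2] = {f 0 1 * h 2} by simp, pow_succ]
    refine Submodule.mul_le.2 fun z hz b hb => ?_
    obtain ⟨g, hg, n, hn, rfl⟩ := Submodule.mem_sup.1 (hG2 hz)
    obtain ⟨gc, rfl⟩ := (Submodule.mem_span_range_iff_exists_fun k).1 hg
    obtain ⟨x, hx⟩ := (S.spans_iff).1 hs1 b (S.mem_one hb)
    rw [← comb_apply] at hx
    obtain ⟨x', hx'⟩ := hφs x
    obtain ⟨x'', rfl⟩ := hφs x'
    subst hx'
    have hfJ : ∑ p : Fin 3 × Fin 3, gc p • f p.1 p.2 ∈ S.J ^ 2 :=
      Submodule.sum_mem _ fun p _ => Submodule.smul_mem _ _ (hprod _ _)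
    have h1 : (∑ p : Fin 3 × Fin 3, gc p • f p.1 p.2) * comb e (φ (φ x'')) ∈ P₃ := by
      rw [hexp x'']
      simp only [map_sum, map_smul, Finset.sum_mul, Finset.mul_sum, smul_mul_assoc, mul_smul_comm]
      exact Submodule.sum_mem _ fun l _ => Submodule.smul_mem _ _
        (Submodule.sum_mem _ fun p _ => Submodule.smul_mem _ _ (hall _ _ _))
    have h2 := Submodule.add_mem P₃ (Submodule.add_mem P₃ h1
      (Submodule.mem_sup_right (S.mul_N_pow (n := 1) (j := 2) (by omega) hx hfJ)))
      (Submodule.mem_sup_right (S.N_mul (show 2 < S.m by omega) hn hb))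
    convert h2 using 1
    simp only [mul_sub, add_mul]
    abel

end

end Ctx

end H18.Local5
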