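import Cfsg.Agent.H18.Local5.RankTwo
import Cfsg.Agent.H18.Local5.RankThree

/-!
# A symmetric local algebra whose commutators have codimension five has dimension at most eight

(Chlebowitz–Külshammer.)  Stated for the radical `J`: if the commutators of `J` are non-zero and of
codimension at most four in `J`, then `dim J ≤ 7`.
-/

set_option autoImplicit false
set_option linter.unusedSectionVars false

namespace H18.Local5

universe u v

variable {k : Type u} [Field k] {A : Type v} [Ring A] [Algebra k A] [FiniteDimensional k A]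

/-- Generators of a submodule modulo a smaller one. -/
theorem exists_gen {P Q : Submodule k A} (hPQ : P ≤ Q) {n : ℕ}
    (hn : Module.finrank k Q = Module.finrank k P + n) :
    ∃ e : Fin n → A, (∀ i, e i ∈ Q) ∧ Q ≤ Submodule.span k (Set.range e) ⊔ P := by
  set P' : Submodule k Q := P.comap Q.subtype with hP'
  have h1 : Module.finrank k P' = Module.finrank k P :=
    (Submodule.comapSubtypeEquivOfLe hPQ).finrank_eq
  have h2 : Module.finrank k (↥Q ⧸ P') = n := by
    have := P'.finrank_quotient_add_finrank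
    omega
  let b := Module.finBasisOfFinrankEq k (↥Q ⧸ P') h2
  choose e he using fun i => Submodule.mkQ_surjective P' (b i)
  refine ⟨fun i => (e i : A), fun i => (e i).2, fun z hz => ?_⟩
  have hmem : (⟨z, hz⟩ : Q) - ∑ i, b.repr (P'.mkQ ⟨z, hz⟩) i • e i ∈ P' := by
    rw [← Submodule.Quotient.mk_eq_zero, ← Submodule.mkQ_apply, map_sub, map_sum]
    simp only [map_smul, he, b.sum_repr, sub_self]
  rw [← add_sub_cancel (∑ i, b.repr (P'.mkQ ⟨z, hz⟩) i • (e i : A)) z]
  refine Submodule.add_mem_sup ((Submodule.mem_span_range_iff_exists_fun k).2 ⟨_, rfl⟩) ?_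
  have h3 : (((⟨z, hz⟩ : Q) - ∑ i, b.repr (P'.mkQ ⟨z, hz⟩) i • e i : Q) : A) ∈ P := hmem
  simpa using h3

namespace Ctx

variable (S : Ctx k A)

/-- One generator gives a commutative algebra. -/
theorem comm_eq_bot_of_gen_one {a : A} (ha : a ∈ S.J)
    (hgen : S.J ≤ Submodule.span k {a} ⊔ S.J ^ 2) : S.comm = ⊥ := by
  have hlayer : ∀ l : ℕ, S.J ^ (l + 1) ≤ Submodule.span k {a ^ (l + 1)} ⊔ S.J ^ (l + 2) := by
    intro l
    induction l with
    | zero => simpa using hgen
    | succ l ih =>
      rw [pow_succ]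
      refine Submodule.mul_le.2 fun z hz b hb => ?_
      obtain ⟨u, hu, z', hz', rfl⟩ := Submodule.mem_sup.1 (ih hz)
      obtain ⟨γ, rfl⟩ := Submodule.mem_span_singleton.1 hu
      obtain ⟨u, hu, b', hb', rfl⟩ := Submodule.mem_sup.1 (hgen hb)
      obtain ⟨δ, rfl⟩ := Submodule.mem_span_singleton.1 hu
      have e1 : (γ • a ^ (l + 1) + z') * (δ • a + b') = (γ * δ) • a ^ (l + 1 + 1) +
          (z' * (δ • a + b') + γ • a ^ (l + 1) * b') := by
        simp only [mul_add, add_mul, smul_mul_assoc, mul_smul_comm, pow_succ _ (l + 1), smul_smul]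
        module
      rw [e1]
      refine Submodule.add_mem_sup (Submodule.smul_mem _ _ (Submodule.mem_span_singleton_self _))
        (Submodule.add_mem _ (by
          have h := S.mul_mem_pow hz' (S.mem_one hb)
          rwa [show l + 2 + 1 = l + 1 + 2 by omega] at h) ?_)
      have := S.mul_mem_pow (Submodule.smul_mem _ γ (S.pow_mem ha (l + 1))) hb'
      rwa [show l + 1 + 2 = l + 1 + 2 from rfl] at this
  have hcomm_a : ∀ d l : ℕ, S.m ≤ l + d → ∀ x ∈ S.J ^ (l + 1), Commute x a := by
    intro d
    induction d with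
    | zero =>
      intro l hl x hx
      rw [S.eq_zero_of_lt (by omega) hx]
      exact Commute.zero_left a
    | succ d ih =>
      intro l hl x hx
      obtain ⟨u, hu, x', hx', rfl⟩ := Submodule.mem_sup.1 (hlayer l hx)
      obtain ⟨γ, rfl⟩ := Submodule.mem_span_singleton.1 hu
      exact ((Commute.pow_self a _).smul_left γ).add_left (ih (l + 1) (by omega) x' hx')
  have hall : ∀ d l : ℕ, S.m ≤ l + d → ∀ x ∈ S.J ^ (l + 1), ∀ b ∈ S.J, Commute x b := by
    intro d
    induction d with
    | zero =>
      intro l hl x hx b _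
      rw [S.eq_zero_of_lt (by omega) hx]
      exact Commute.zero_left b
    | succ d ih =>
      intro l hl x hx b hb
      obtain ⟨u, hu, x', hx', rfl⟩ := Submodule.mem_sup.1 (hlayer l hx)
      obtain ⟨γ, rfl⟩ := Submodule.mem_span_singleton.1 hu
      exact (((hcomm_a S.m 0 (by omega) b (S.mem_one hb)).symm.pow_left _).smul_left γ).add_left
        (ih (l + 1) (by omega) x' hx' b hb)
  rw [eq_bot_iff, comm, Submodule.span_le]
  rintro _ ⟨x, hx, b, hb, rfl⟩
  rw [SetLike.mem_coe, Submodule.mem_bot, (hall S.m 0 (by omega) x (S.mem_one hx) b hb).eq,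
    sub_self]

variable [IsAlgClosed k]

/-- The dimension bound. -/
theorem finrank_le_seven (h4 : Module.finrank k S.J ≤ Module.finrank k S.comm + 4)
    (hK : S.comm ≠ ⊥) : Module.finrank k S.J ≤ 7 := by
  classical
  obtain ⟨s, hs, hτ, hsoc⟩ := S.exists_socle
  have htop : ∀ z ∈ S.J ^ S.m, z ∈ Submodule.span k {s} := fun z hz =>
    hsoc z (S.pow_le_J S.pos hz) fun b hb =>
      S.eq_zero_of_lt (Nat.lt_succ_self _) (S.mul_mem_pow hz (S.mem_one hb))
  have hm3 : 3 ≤ S.m := by
    by_contra hm
    apply hK
    rw [eq_bot_iff]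
    intro z hz
    rw [Submodule.mem_bot]
    have hz2 := S.comm_le_sq hz
    rcases (show S.m = 1 ∨ S.m = 2 by have := S.pos; omega) with h1 | h2
    · exact S.eq_zero_of_lt (by omega) hz2
    · rw [← h2] at hz2
      obtain ⟨t, rfl⟩ := Submodule.mem_span_singleton.1 (htop z hz2)
      have h0 := S.tau_comm_zero hz
      rw [map_smul, smul_eq_mul] at h0
      rw [(mul_eq_zero.1 h0).resolve_right hτ, zero_smul]
  have hs3 : s ∈ S.J ^ 3 := S.pow_anti (by omega) hm3 hs
  have hsK : s ∉ S.comm := fun h => hτ (S.tau_comm_zero h)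
  set V := S.comm ⊔ Submodule.span k {s} with hV
  have hVf : Module.finrank k V = Module.finrank k S.comm + 1 := by
    refine le_antisymm ?_ ?_
    · refine (Submodule.finrank_add_le_finrank_add_finrank _ _).trans (Nat.add_le_add_left ?_ _)
      rw [finrank_span_singleton (fun h => hτ (by rw [h, map_zero]))]
    · exact Submodule.finrank_lt_finrank_of_lt (lt_of_le_of_ne le_sup_left fun he =>
        hsK (he ▸ Submodule.mem_sup_right (Submodule.mem_span_singleton_self s)))
  have hV2 : V ≤ S.J ^ 2 := sup_le S.comm_le_sq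
    ((Submodule.span_singleton_le_iff_mem _ _).2 (S.pow_anti (by omega) (by omega) hs))
  have h2J : S.J ^ 2 ≤ S.J := S.pow_le_J (by omega)
  have hVle := Submodule.finrank_mono hV2
  have hJle := Submodule.finrank_mono h2J
  obtain ⟨r, hr⟩ : ∃ r, Module.finrank k S.J = Module.finrank k ↥(S.J ^ 2) + r :=
    ⟨_, (Nat.add_sub_cancel' hJle).symm⟩
  obtain ⟨e, hmem, hgen⟩ := exists_gen h2J hr
  have hr3 : r ≤ 3 := by omega
  rcases (show r ≤ 1 ∨ r = 2 ∨ r = 3 by omega) with hr1 | rfl | rfl
  · exfalso
    apply hK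
    rcases (show r = 0 ∨ r = 1 by omega) with rfl | rfl
    · refine S.comm_eq_bot_of_gen_one (a := 0) (Submodule.zero_mem _)
        (hgen.trans (sup_le ?_ le_sup_right))
      rw [Submodule.span_le]
      rintro _ ⟨i, _⟩
      exact i.elim0
    · refine S.comm_eq_bot_of_gen_one (hmem 0) (hgen.trans (sup_le_sup_right ?_ _))
      rw [Submodule.span_le]
      rintro _ ⟨i, rfl⟩
      rw [Fin.fin_one_eq_zero i]
      exact Submodule.mem_span_singleton_self _
  · -- two generators
    set c := e 0 * e 1 - e 1 * e 0 with hc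
    have hKc : S.comm ≤ Submodule.span k {c} ⊔ S.J ^ 3 := by
      refine (S.comm_le hmem hgen).trans (sup_le_sup ?_ S.commPow_le)
      rw [Submodule.span_le]
      rintro _ ⟨⟨i, j⟩, rfl⟩
      exact bracket_mem_pair e i j
    obtain ⟨w, hsq, hcube⟩ : ∃ w : A,
        S.J ^ 2 ≤ Submodule.span k {c, w} ⊔ S.J ^ 3 ∧
        (S.J ^ 3 ≤ S.comm ⊔ Submodule.span k {s} ∨
          S.J ^ 2 ≤ Submodule.span k {c} ⊔ S.J ^ 3) := by
      by_cases hle : S.J ^ 2 ≤ Submodule.span k {c} ⊔ S.J ^ 3
      · exact ⟨0, hle.trans (sup_le_sup_right (Submodule.span_mono (by simp)) _), Or.inr hle⟩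
      set W := S.comm ⊔ S.J ^ 3 with hW
      have hWle : W ≤ S.J ^ 2 := sup_le S.comm_le_sq (S.pow_anti (by omega) (by omega))
      have hWc : W ≤ Submodule.span k {c} ⊔ S.J ^ 3 := sup_le hKc le_sup_right
      have hlt : W < S.J ^ 2 := lt_of_le_of_ne hWle fun he => hle (he ▸ hWc)
      have hlt' := Submodule.finrank_lt_finrank_of_lt hlt
      have hVW : V ≤ W := sup_le_sup_left ((Submodule.span_singleton_le_iff_mem _ _).2 hs3) _
      have hVW' : V = W := Submodule.eq_of_le_of_finrank_le hVW (by omega)
      obtain ⟨w, hw, hwW⟩ := SetLike.exists_of_lt hlt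
      refine ⟨w, ?_, Or.inl (hVW' ▸ le_sup_right : S.J ^ 3 ≤ V)⟩
      have hX : W ⊔ Submodule.span k {w} = S.J ^ 2 := by
        refine Submodule.eq_of_le_of_finrank_le
          (sup_le hWle ((Submodule.span_singleton_le_iff_mem _ _).2 hw)) ?_
        have h5 : W < W ⊔ Submodule.span k {w} := lt_of_le_of_ne le_sup_left fun he =>
          hwW (he ▸ Submodule.mem_sup_right (Submodule.mem_span_singleton_self w))
        have := Submodule.finrank_lt_finrank_of_lt h5
        have hVWf : Module.finrank k V = Module.finrank k W := by rw [hVW']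
        omega
      rw [← hX]
      refine sup_le (hWc.trans (sup_le_sup_right (Submodule.span_mono (by simp)) _)) ?_
      exact le_sup_of_le_left (Submodule.span_mono (by simp))
    by_contra hbig
    refine S.false_of_gen_two hgen hmem hs hτ hsq hcube ?_
    by_contra hm5
    apply hbig
    -- Loewy length at most four
    have hJ3 : Module.finrank k ↥(S.J ^ 3) ≤ 3 := by
      let f : ↥(S.J ^ 3) →ₗ[k] (Fin 2 → k) := LinearMap.pi fun i =>
        S.τ.comp ((LinearMap.mulRight k (e i)).comp (S.J ^ 3).subtype)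
      have hker : (LinearMap.ker f).map (S.J ^ 3).subtype ≤ Submodule.span k {s} := by
        rintro _ ⟨z, hz, rfl⟩
        have hzJ := S.pow_le_J (show 1 ≤ 3 by omega) z.2
        refine hsoc _ hzJ (S.mul_eq_zero_of_tau hzJ fun b hb => ?_)
        obtain ⟨d, hd⟩ := S.exists_comb hgen hb
        have h5 : (z : A) * (b - comb e d) = 0 :=
          S.eq_zero_of_lt (show S.m < 3 + 2 by omega) (S.mul_mem_pow z.2 hd)
        rw [mul_sub, sub_eq_zero] at h5
        show S.τ ((z : A) * b) = 0
        rw [h5, comb_apply, Finset.mul_sum, map_sum]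
        refine Finset.sum_eq_zero fun i _ => ?_
        rw [mul_smul_comm, map_smul, show S.τ ((z : A) * e i) = 0 from congrFun hz i, smul_zero]
      have hrn := LinearMap.finrank_range_add_finrank_ker f
      have hr2 : Module.finrank k (LinearMap.range f) ≤ 2 :=
        (Submodule.finrank_le _).trans_eq (by simp)
      have hk1 : Module.finrank k (LinearMap.ker f) ≤ 1 := by
        rw [← Submodule.finrank_map_subtype_eq]
        refine (Submodule.finrank_mono hker).trans ?_
        exact (finrank_span_le_card _).trans (by simp)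
      omega
    have hJ2 : Module.finrank k ↥(S.J ^ 2) ≤ 5 := by
      refine (Submodule.finrank_mono hsq).trans
        ((Submodule.finrank_add_le_finrank_add_finrank _ _).trans (Nat.add_le_add ?_ hJ3))
      have : ({c, w} : Set A) = (({c, w} : Finset A) : Set A) := by simp
      rw [this]
      exact (finrank_span_finset_le_card _).trans Finset.card_le_two
    omega
  · -- three generators
    have hsq : S.J ^ 2 ≤ S.comm ⊔ Submodule.span k {s} :=
      (Submodule.eq_of_le_of_finrank_le hV2 (by omega)).ge
    by_contra hbig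
    refine S.false_of_gen_three hgen hmem hs hsq ?_
    by_contra hm4
    apply hbig
    have hm : S.m = 3 := by omega
    have hJ2 : S.J ^ 2 ≤ Submodule.span k (Set.range (brk e)) ⊔ Submodule.span k {s} := by
      refine hsq.trans (sup_le ((S.comm_le hmem hgen).trans (sup_le_sup ?_ ?_)) le_sup_right)
      · rw [Submodule.span_le]
        rintro _ ⟨⟨i, j⟩, rfl⟩
        exact bracket_mem_brk e i j
      · intro z hz
        exact htop z (by rw [hm]; exact S.commPow_le hz)
    have : Module.finrank k ↥(S.J ^ 2) ≤ 4 := by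
      refine (Submodule.finrank_mono hJ2).trans
        ((Submodule.finrank_add_le_finrank_add_finrank _ _).trans (Nat.add_le_add
          (a := _) (b := 3) (c := _) (d := 1) ?_ ?_))
      · exact (finrank_range_le_card _).trans_eq (by simp)
      · exact (finrank_span_le_card _).trans (by simp)
    omega

end Ctx

end H18.Local5
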