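import Cfsg.Agent.H18.Local5.Brackets

/-!
# Two generators force Loewy length at most four
-/

set_option autoImplicit false
set_option linter.unusedSectionVars false

namespace H18.Local5

universe u v

variable {k : Type u} [Field k] [IsAlgClosed k] {A : Type v} [Ring A] [Algebra k A]

namespace Ctx

variable (S : Ctx k A)

theorem bracket_mem_pair (e : Fin 2 → A) (i j : Fin 2) :
    e i * e j - e j * e i ∈ Submodule.span k {e 0 * e 1 - e 1 * e 0} := by
  rw [Submodule.mem_span_singleton]
  fin_cases i <;> fin_cases j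
  · exact ⟨0, by simp⟩
  · exact ⟨1, by simp⟩
  · exact ⟨-1, by simp⟩
  · exact ⟨0, by simp⟩

section

variable {e : Fin 2 → A} (hgen : S.J ≤ Submodule.span k (Set.range e) ⊔ S.J ^ 2)
  (hmem : ∀ i, e i ∈ S.J) {s w : A} (hs : s ∈ S.J ^ S.m) (hτ : S.τ s ≠ 0)
  (hsq : S.J ^ 2 ≤ Submodule.span k {e 0 * e 1 - e 1 * e 0, w} ⊔ S.J ^ 3)
  (hcube : S.J ^ 3 ≤ S.comm ⊔ Submodule.span k {s} ∨
    S.J ^ 2 ≤ Submodule.span k {e 0 * e 1 - e 1 * e 0} ⊔ S.J ^ 3)
  (hm : 5 ≤ S.m)

include hgen hmem hs hτ hcube hm in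
theorem indep_one' : S.Indep 1 e := by
  have hsp := S.spans_one_of_gen (by omega) hgen
  intro g hg
  by_contra hne
  obtain ⟨i, hi⟩ := Function.ne_iff.1 hne
  set a := e (i.succAbove 0) with ha'
  have ha : a ∈ S.J := hmem _
  have hsa : S.Spans 1 ![a] := by
    have h := S.exists_drop hsp hg hi
    rwa [show (fun j => e (i.succAbove j)) = ![a] from
      funext fun j => by rw [Fin.fin_one_eq_zero j]; rfl] at h
  rcases hcube with hc | hc
  swap
  · -- the commutator is invisible
    refine S.not_pow_le_N (n := 2) (by omega) (hc.trans (sup_le ?_ (S.pow_le_N (by omega))))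
    rw [Submodule.span_singleton_le_iff_mem]
    have hK : S.comm ≤ S.N 2 := by
      refine (S.comm_le_N (by omega) (fun j => by simpa using ha) hsa).trans (sup_le ?_ le_rfl)
      rw [Submodule.span_le]
      rintro _ ⟨⟨j, l⟩, rfl⟩
      simp [Fin.fin_one_eq_zero]
    exact hK (Submodule.subset_span ⟨_, hmem 0, _, hmem 1, rfl⟩)
  -- the functional given by a power
  set n := ∑ l, g l • e l with hn'
  have hnJ : n ∈ S.J := Submodule.sum_mem _ fun l _ => Submodule.smul_mem _ _ (hmem l)
  have hgen' : S.J ≤ Submodule.span k (Set.range ![a, n]) ⊔ S.J ^ 2 := by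
    refine hgen.trans (sup_le_sup_right ?_ _)
    rw [Submodule.span_le]
    rintro _ ⟨j, rfl⟩
    rcases Fin.eq_self_or_eq_succAbove i j with hji | ⟨j', hj'⟩
    · have hd : e i = (g i)⁻¹ • n + -((g i)⁻¹ • g (i.succAbove 0) • a) := by
        rw [hn', Fin.sum_univ_succAbove _ i, Fin.sum_univ_one, smul_add, smul_smul,
          inv_mul_cancel₀ hi, one_smul, ← ha']
        abel
      rw [hji, SetLike.mem_coe, hd]
      exact Submodule.add_mem _ (Submodule.smul_mem _ _ (Submodule.subset_span ⟨1, rfl⟩))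
        (Submodule.neg_mem _ (Submodule.smul_mem _ _ (Submodule.smul_mem _ _
          (Submodule.subset_span ⟨0, rfl⟩))))
    · rw [hj', Fin.fin_one_eq_zero j']
      exact Submodule.subset_span ⟨0, rfl⟩
  set j := S.m - 3 with hj
  have hca : ∀ x : A, S.τ ((a * x - x * a) * a ^ j) = 0 := fun x => by
    rw [sub_mul, map_sub, mul_assoc, S.trace, mul_assoc, mul_assoc, ← pow_succ,
      ← pow_succ', sub_self]
  have hK : ∀ b ∈ S.comm, S.τ (b * a ^ j) = 0 := by
    intro b hb
    have hb' := S.comm_le (e := ![a, n]) (fun l => by fin_cases l <;> simp [ha, hnJ]) hgen' hb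
    suffices h : ∀ x ∈ Submodule.span k (Set.range fun p : Fin 2 × Fin 2 =>
        ![a, n] p.1 * ![a, n] p.2 - ![a, n] p.2 * ![a, n] p.1) ⊔ S.commPow 2,
        x ∈ LinearMap.ker (S.τ.comp (LinearMap.mulRight k (a ^ j))) from h b hb'
    refine fun x hx => (sup_le ?_ ?_ : _ ≤ LinearMap.ker
      (S.τ.comp (LinearMap.mulRight k (a ^ j)))) hx
    · rw [Submodule.span_le]
      rintro _ ⟨⟨p, q⟩, rfl⟩
      show S.τ (_ * a ^ j) = 0
      have h1 := hca n
      fin_cases p <;> fin_cases q
      · simp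
      · simpa using h1
      · have h2 : S.τ ((n * a - a * n) * a ^ j) = 0 := by
          rw [← neg_sub, neg_mul, map_neg, h1, neg_zero]
        simpa using h2
      · simp
    · rw [commPow, Submodule.span_le]
      rintro _ ⟨c, hc, d, hd, rfl⟩
      show S.τ (_ * a ^ j) = 0
      obtain ⟨x, hx⟩ := S.exists_comb hgen' hc
      have hcx : c = x 0 • a + x 1 • n + (c - comb ![a, n] x) := by
        simp [comb_apply, Fin.sum_univ_two]
      have hw1 : d * a ^ j ∈ S.J ^ (S.m - 1) := by
        have := S.mul_mem_pow hd (S.pow_mem ha j)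
        rwa [show 2 + j = S.m - 1 by omega] at this
      have hw2 : a ^ j * d ∈ S.J ^ (S.m - 1) := by
        have := S.mul_mem_pow (S.pow_mem ha j) hd
        rwa [show j + 2 = S.m - 1 by omega] at this
      have hn1 : S.τ ((n * d - d * n) * a ^ j) = 0 := by
        rw [sub_mul, map_sub, mul_assoc, hg _ hw1, mul_assoc, S.trace d, mul_assoc, hg _ hw2,
          sub_zero]
      have hn2 : ((c - comb ![a, n] x) * d - d * (c - comb ![a, n] x)) * a ^ j = 0 := by
        refine S.eq_zero_of_lt (show S.m < 2 + 2 + j by omega) (S.mul_mem_pow ?_ (S.pow_mem ha j))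
        exact Submodule.sub_mem _ (S.mul_mem_pow hx hd) (S.mul_mem_pow hd hx)
      rw [hcx]
      generalize c - comb ![a, n] x = c' at hn2
      have e2 : ((x 0 • a + x 1 • n + c') * d - d * (x 0 • a + x 1 • n + c')) * a ^ j =
          x 0 • ((a * d - d * a) * a ^ j) + x 1 • ((n * d - d * n) * a ^ j) +
            (c' * d - d * c') * a ^ j := by
        simp only [add_mul, mul_add, sub_mul, smul_mul_assoc, mul_smul_comm, smul_sub]
        abel
      rw [e2, hn2, add_zero, map_add, map_smul, map_smul, hca, hn1, smul_zero, smul_zero,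
        add_zero]
  have hpow : ∀ l : ℕ, l + 1 ≤ S.m → S.Spans (l + 1) ![a ^ (l + 1)] := by
    intro l
    induction l with
    | zero => intro _; simpa using hsa
    | succ l ih =>
      intro hl
      show S.J ^ (l + 1 + 1) ≤ _
      rw [pow_succ]
      refine Submodule.mul_le.2 fun z hz b hb => ?_
      obtain ⟨γ, hγ⟩ := (S.spans_iff).1 (ih (by omega)) z hz
      obtain ⟨δ, hδ⟩ := (S.spans_iff).1 hsa b (S.mem_one hb)
      simp only [Fin.sum_univ_one, Matrix.cons_val_fin_one] at hγ hδ
      have h1 := S.N_mul (show l + 1 < S.m by omega) hγ hb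
      have h2 := S.mul_N_pow (n := 1) (j := l + 1) (by omega) hδ
        (Submodule.smul_mem _ (γ 0) (S.pow_mem ha (l + 1)))
      rw [show 1 + (l + 1) = l + 1 + 1 by omega] at h2
      have e1 : z * b = (γ 0 * δ 0) • a ^ (l + 1 + 1) +
          ((z - γ 0 • a ^ (l + 1)) * b + γ 0 • a ^ (l + 1) * (b - δ 0 • a)) := by
        simp only [sub_mul, mul_sub, smul_mul_assoc, mul_smul_comm, pow_succ _ (l + 1), smul_smul]
        module
      rw [e1]
      exact Submodule.add_mem_sup (Submodule.smul_mem _ _ (Submodule.subset_span ⟨0, rfl⟩))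
        (Submodule.add_mem _ h1 h2)
  apply hτ
  have hsp' := hpow (S.m - 1) (by omega)
  rw [show S.m - 1 + 1 = S.m by omega] at hsp'
  obtain ⟨γ, hγ⟩ := (S.spans_iff).1 hsp' s hs
  simp only [Fin.sum_univ_one, Matrix.cons_val_fin_one] at hγ
  have h1 := hγ 1 (by rw [Nat.sub_self, pow_zero]; exact Submodule.one_le.1 le_rfl)
  rw [mul_one, map_sub, map_smul, sub_eq_zero] at h1
  rw [h1]
  have h3 : a ^ 3 ∈ S.J ^ 3 := S.pow_mem ha 3
  obtain ⟨b, hb, t, ht, hbt⟩ := Submodule.mem_sup.1 (hc h3)
  obtain ⟨c, rfl⟩ := Submodule.mem_span_singleton.1 ht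
  have hsz : s * a ^ j = 0 :=
    S.eq_zero_of_lt (show S.m < S.m + j by omega) (S.mul_mem_pow hs (S.pow_mem ha _))
  rw [show S.m = 3 + j by omega, pow_add, ← hbt, add_mul, smul_mul_assoc, hsz, smul_zero,
    add_zero, hK b hb, smul_zero]

include hgen hmem hs hτ hsq hcube hm in
theorem false_of_gen_two : False := by
  have hind := S.indep_one' hgen hmem hs hτ hcube hm
  have hs1 := S.spans_one_of_gen (by omega) hgen
  set c := e 0 * e 1 - e 1 * e 0 with hcdef
  have hnot1 : ∀ n : ℕ, 1 ≤ n → n + 1 ≤ S.m → ∀ z : A, ¬ S.Spans n ![z] := fun n h1 h2 z =>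
    S.not_spans_one hind hmem le_rfl h1 h2 z
  have hnc : ¬ S.J ^ 2 ≤ Submodule.span k {c} ⊔ S.J ^ 3 := fun h => hnot1 2 (by omega) (by omega) c
    (h.trans (sup_le_sup (le_of_eq (by simp)) (S.pow_le_N (by omega))))
  have hJ3 : S.J ^ 3 ≤ S.comm ⊔ Submodule.span k {s} := hcube.resolve_right hnc
  have hsp2 : S.Spans 2 ![c, w] :=
    hsq.trans (sup_le_sup (le_of_eq (by simp [Set.pair_comm])) (S.pow_le_N (by omega)))
  have hi2 : S.Indep 2 ![c, w] := S.indep_of_spans hsp2 fun u hu => by
    refine hnot1 2 (by omega) (by omega) (u 0) ?_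
    rwa [show ![u 0] = u from funext fun i => by rw [Fin.fin_one_eq_zero i]; rfl]
  -- the square meets the annihilator in the cube
  have hJN : ∀ z ∈ S.J ^ 2, z ∈ S.N 2 → z ∈ S.J ^ 3 := by
    intro z hz hzN
    obtain ⟨u, hu, v, hv, rfl⟩ := Submodule.mem_sup.1 (hsq hz)
    obtain ⟨p, hp⟩ := Submodule.mem_span_pair.1 hu
    obtain ⟨q, rfl⟩ := hp
    have h0 := hi2 ![p, q] (by
      simpa [Fin.sum_univ_two] using Submodule.sub_mem _ hzN (S.pow_le_N (show 2 < 3 by omega) hv))
    have hp0 : p = 0 := congrFun h0 0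
    have hq0 : q = 0 := congrFun h0 1
    simpa [hp0, hq0] using hv
  have hminor : ∀ x y : Fin 2 → k, x ≠ 0 →
      comb e x * comb e y - comb e y * comb e x ∈ S.N 2 → ∃ t : k, y = t • x := by
    intro x y hx h
    have hb : comb e x * comb e y - comb e y * comb e x = (x 0 * y 1 - x 1 * y 0) • c := by
      rw [bracket_comb, hcdef]
      simp only [Fin.sum_univ_two]
      module
    rw [hb] at h
    have h0 := congrFun (hi2 ![x 0 * y 1 - x 1 * y 0, 0] (by simpa [Fin.sum_univ_two] using h)) 0
    simp at h0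
    refine exists_smul_of_minors hx fun i j => ?_
    fin_cases i <;> fin_cases j <;> simp
    all_goals first
      | rfl
      | linear_combination h0
      | linear_combination -h0
  obtain ⟨a, ha, hreg⟩ := S.exists_reg hind hmem le_rfl (n := 1) le_rfl (by omega) hsp2
  obtain ⟨o, ho⟩ := (S.spans_iff).1 hs1 a (S.mem_one ha)
  rw [← comb_apply] at ho
  have ho0 : o ≠ 0 := by
    intro h0
    rw [h0, map_zero, sub_zero] at ho
    refine S.not_pow_le_N (n := 2) (by omega) ?_
    intro z hz
    obtain ⟨_, ⟨u, hu, rfl⟩, r, hr, rfl⟩ := Submodule.mem_sup.1 (hreg hz)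
    rw [pow_one] at hu
    exact Submodule.add_mem _ (S.N_mul (by omega) ho hu) hr
  let F : Frame S 1 :=
    { e := e
      a := a
      hm := by omega
      mem := hmem
      ind := hind
      sp := hs1
      ha := ha
      reg := hreg
      sp2 := ⟨_, hsp2⟩
      hbr := fun v hv => by
        have h' : comb e o * comb e v - comb e v * comb e o ∈ S.N 2 := by
          have := Submodule.sub_mem _ hv (Submodule.sub_mem _
            (S.N_mul (show 1 < S.m by omega) ho (S.comb_mem hmem v))
            (S.mul_N (show 1 < S.m by omega) ho (S.comb_mem hmem v)))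
          convert this using 1
          noncomm_ring
        obtain ⟨t, rfl⟩ := hminor o v ho0 h'
        refine ⟨t, ?_⟩
        rw [map_smul, ← smul_sub]
        exact Submodule.smul_mem _ _ (by simpa using Submodule.neg_mem _ ho) }
  obtain ⟨hcomm, E, hEE, hσE, hEli⟩ := F.alg.dim_two (by simp)
  have hone : ∀ z, F.mu F.one z = z ∧ F.mu z F.one = z := fun z =>
    ⟨F.mu_one_left z, F.mu_one_right z⟩
  set E' := F.one - E with hE'
  have hσE2 : F.sig E = E' := hσE
  have hσE' : F.sig E' = E := by rw [hE', map_sub, F.sig_one, hσE2, sub_sub_cancel]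
  have hEE2 : F.mu E E = E := hEE
  have hEE' : F.mu E E' = 0 := by rw [hE', map_sub, (hone E).2, hEE2, sub_self]
  have hE'E : F.mu E' E = 0 := by
    rw [hE', map_sub, LinearMap.sub_apply, (hone E).1, hEE2, sub_self]
  have hE'E' : F.mu E' E' = E' := by
    have h : F.mu E' E' = F.mu F.one E' - F.mu E E' := by
      conv_lhs => rw [show F.mu E' = F.mu F.one - F.mu E by rw [hE', map_sub]]
      rw [LinearMap.sub_apply]
    rw [h, (hone E').1, hEE', sub_zero]
  set B2 := basisOfLinearIndependentOfCardEqFinrank (b := ![E, E']) hEli (by simp) with hB2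
  have hexp : ∀ v, ∃ p q : k, v = p • E + q • E' := fun v =>
    ⟨B2.repr v 0, B2.repr v 1, by
      conv_lhs => rw [← B2.sum_repr v]
      have hb : ∀ i, B2 i = ![E, E'] i := fun i => by
        rw [hB2]; exact congrFun (coe_basisOfLinearIndependentOfCardEqFinrank hEli _) i
      simp only [Fin.sum_univ_two, hb, Matrix.cons_val_zero, Matrix.cons_val_one]⟩
  have hσσ : ∀ v, F.sig (F.sig v) = v := fun v => by
    obtain ⟨p, q, rfl⟩ := hexp v
    simp only [map_add, map_smul, hσE2, hσE']
  have hiter : ∀ (l : ℕ) (v : Fin 2 → k), F.sig^[2 * l] v = v := by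
    intro l v
    induction l with
    | zero => rfl
    | succ l ih =>
      rw [show 2 * (l + 1) = 2 + 2 * l by ring, Function.iterate_add_apply, ih]
      exact hσσ v
  -- the length is even
  obtain ⟨l, hl⟩ : ∃ l, S.m = 2 * l := by
    rcases Nat.even_or_odd' S.m with ⟨l, hl | hl⟩
    · exact ⟨l, hl⟩
    exfalso
    have h := F.sig_pow_m hcomm E
    rw [hl, Function.iterate_succ_apply', hiter, hσE2] at h
    have := (LinearIndependent.pair_iff.1 hEli) (-1) 1 (by
      show (-1 : k) • E + (1 : k) • E' = 0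
      rw [h]; module)
    exact one_ne_zero this.2
  have hσ4 : ∀ v, F.sig^[S.m - 4] v = v := fun v => by
    rw [show S.m - 4 = 2 * (l - 2) by omega]
    exact hiter _ v
  obtain ⟨v0, hv0⟩ := F.exists_eps_ne
  apply hv0
  -- relations of the generators
  set x := comb e E with hx
  set y := comb e E' with hy
  have hxJ : x ∈ S.J := S.comb_mem hmem E
  have hyJ : y ∈ S.J := S.comb_mem hmem E'
  have hsq2 : ∀ z₁ ∈ S.J, ∀ z₂ ∈ S.J, z₁ * z₂ ∈ S.J ^ 2 := fun z₁ h1 z₂ h2 => by
    rw [pow_two]; exact Submodule.mul_mem_mul h1 h2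
  have hxx : x * x ∈ S.J ^ 3 := hJN _ (hsq2 x hxJ x hxJ) (by
    have h := F.R₂_mu E E
    rwa [hσE2, hEE', Frame.R₂, map_zero, zero_mul, sub_zero] at h)
  have hyy : y * y ∈ S.J ^ 3 := hJN _ (hsq2 y hyJ y hyJ) (by
    have h := F.R₂_mu E' E'
    rwa [hσE', hE'E, Frame.R₂, map_zero, zero_mul, sub_zero] at h)
  have hxy : x * y - x * a ∈ S.N 2 := by
    have h := F.R₂_mu E E'
    rwa [hσE', hEE2] at h
  have hyx : y * x - y * a ∈ S.N 2 := by
    have h := F.R₂_mu E' E
    rwa [hσE2, hE'E'] at h
  have hJ2 : S.J ^ 2 ≤ Submodule.span k {x * y, y * x} ⊔ S.J ^ 3 := by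
    intro z hz
    obtain ⟨d, hd⟩ := (S.spans_iff).1 F.spans_right z hz
    obtain ⟨p, q, hpq⟩ := hexp d
    have hrem : z - (p • (x * y) + q • (y * x)) ∈ S.N 2 := by
      have hcd : ∑ i, d i • (F.e i * F.a) = comb e d * a := by
        simp [comb_apply, F, Fin.sum_univ_two, add_mul]
      rw [hcd, hpq] at hd
      have := Submodule.sub_mem _ hd (Submodule.add_mem _ (Submodule.smul_mem _ p hxy)
        (Submodule.smul_mem _ q hyx))
      convert this using 1
      simp only [map_add, map_smul, add_mul, smul_mul_assoc, ← hx, ← hy, smul_sub]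
      abel
    rw [← add_sub_cancel (p • (x * y) + q • (y * x)) z]
    exact Submodule.add_mem_sup (Submodule.mem_span_pair.2 ⟨p, q, rfl⟩)
      (hJN _ (Submodule.sub_mem _ hz (Submodule.add_mem _
        (Submodule.smul_mem _ _ (hsq2 x hxJ y hyJ)) (Submodule.smul_mem _ _ (hsq2 y hyJ x hxJ))))
        hrem)
  -- the four brackets
  have hQ : S.commPow 2 ≤ Submodule.span k {x * (x * y) - x * y * x, y * (x * y) - x * y * y} ⊔
      S.commPow 3 := by
    rw [commPow, Submodule.span_le]
    rintro _ ⟨g, hg, h, hh, rfl⟩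
    set Q := Submodule.span k {x * (x * y) - x * y * x, y * (x * y) - x * y * y} ⊔ S.commPow 3
    obtain ⟨d, hd⟩ := S.exists_comb hgen hg
    obtain ⟨p, q, hpq⟩ := hexp d
    obtain ⟨u, hu, h3, hh3, rfl⟩ := Submodule.mem_sup.1 (hJ2 hh)
    obtain ⟨α, β, rfl⟩ := Submodule.mem_span_pair.1 hu
    have hq1 : x * (x * y) - x * y * x ∈ Q :=
      Submodule.mem_sup_left (Submodule.subset_span (by simp))
    have hq2 : y * (x * y) - x * y * y ∈ Q :=
      Submodule.mem_sup_left (Submodule.subset_span (by simp))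
    have hq3 : x * (y * x) - y * x * x ∈ Q := by
      have h' := Submodule.add_mem Q (Submodule.neg_mem Q hq1) (Submodule.neg_mem Q
        (Submodule.mem_sup_right (S.bracket_mem hyJ hxx)))
      convert h' using 1
      noncomm_ring
    have hq4 : y * (y * x) - y * x * y ∈ Q := by
      have h' := Submodule.add_mem Q (Submodule.neg_mem Q hq2) (Submodule.neg_mem Q
        (Submodule.mem_sup_right (S.bracket_mem hxJ hyy)))
      convert h' using 1
      noncomm_ring
    -- the part inside the square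
    have hg2 : ∀ z ∈ S.J ^ 2, ∀ h ∈ S.J ^ 2, z * h - h * z ∈ Q := by
      intro z hz h hh
      rw [pow_two] at hz
      refine Submodule.mul_induction_on hz (fun u hu v hv => ?_) fun z₁ z₂ h1 h2 => ?_
      · have e1 : u * v * h - h * (u * v) =
            (u * (v * h) - v * h * u) + (v * (h * u) - h * u * v) := by noncomm_ring
        rw [e1]
        exact Submodule.mem_sup_right (Submodule.add_mem _
          (S.bracket_mem hu (S.mul_mem_pow (S.mem_one hv) hh))
          (S.bracket_mem hv (S.mul_mem_pow hh (S.mem_one hu))))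
      · have h' := Submodule.add_mem Q h1 h2
        convert h' using 1
        noncomm_ring
    have h' := Submodule.add_mem Q (hg2 _ hd _ hh) (Submodule.add_mem Q
      (Submodule.add_mem Q
        (Submodule.smul_mem Q (p * α) hq1) (Submodule.smul_mem Q (p * β) hq3))
      (Submodule.add_mem Q (Submodule.add_mem Q
        (Submodule.smul_mem Q (q * α) hq2) (Submodule.smul_mem Q (q * β) hq4))
        (Submodule.mem_sup_right (S.bracket_mem (S.comb_mem hmem d) hh3))))
    rw [SetLike.mem_coe]
    convert h' using 1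
    rw [hpq]
    simp only [map_add, map_smul, ← hx, ← hy, add_mul, mul_add, sub_mul, mul_sub, smul_mul_assoc,
      mul_smul_comm, smul_sub, smul_smul]
    module
  have hkill : ∀ b ∈ S.comm, b ∈ S.J ^ 4 → S.τ (b * a ^ (S.m - 4)) = 0 := by
    intro b hb hb4
    obtain ⟨u, hu, r, hr, rfl⟩ := Submodule.mem_sup.1 (S.comm_le hmem hgen hb)
    have hu' : u ∈ Submodule.span k {c} := by
      refine Submodule.span_le.2 ?_ hu
      rintro _ ⟨⟨i, j⟩, rfl⟩
      exact bracket_mem_pair e i j
    obtain ⟨g, rfl⟩ := Submodule.mem_span_singleton.1 hu'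
    have hg0 : g = 0 := congrFun (hi2 ![g, 0] (S.pow_le_N (show 2 < 3 by omega) (by
      simpa [Fin.sum_univ_two] using Submodule.sub_mem _ (S.pow_anti (by omega) (by omega) hb4)
        (S.commPow_le hr)))) 0
    obtain ⟨u, hu, t, ht, rfl⟩ := Submodule.mem_sup.1 (hQ hr)
    obtain ⟨α, β, rfl⟩ := Submodule.mem_span_pair.1 hu
    rw [hg0, zero_smul, zero_add] at hb4 ⊢
    -- the coefficients vanish in degree three
    have hz : α • (x * (x * y) - x * y * x) + β • (y * (x * y) - x * y * y) ∈ S.N 3 := by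
      have := Submodule.sub_mem _ (S.pow_le_N (show 3 < 4 by omega) hb4)
        (S.pow_le_N (show 3 < 4 by omega) (S.commPow_le ht))
      simpa using this
    have h2 : comb e ((-α) • E + β • E') * a * a ∈ S.N 3 := by
      have n1 : x * (x * y) - x * y * x + x * a * a ∈ S.N 3 := by
        have := Submodule.sub_mem _ (Submodule.sub_mem _
          (S.pow_le_N (show 3 < 4 by omega) (show x * x * y ∈ S.J ^ (3 + 1) from
            S.mul_mem_pow hxx (S.mem_one hyJ)))
          (S.mul_N (show 2 < S.m by omega) hyx hxJ))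
          (S.N_mul (show 2 < S.m by omega) hxy ha)
        convert this using 1
        noncomm_ring
      have n2 : y * (x * y) - x * y * y - y * a * a ∈ S.N 3 := by
        have := Submodule.add_mem _ (Submodule.sub_mem _
          (S.mul_N (show 2 < S.m by omega) hxy hyJ)
          (S.pow_le_N (show 3 < 4 by omega) (show x * (y * y) ∈ S.J ^ (1 + 3) from
            S.mul_mem_pow (S.mem_one hxJ) hyy)))
          (S.N_mul (show 2 < S.m by omega) hyx ha)
        convert this using 1
        noncomm_ring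
      have := Submodule.sub_mem _ hz (Submodule.add_mem _ (Submodule.smul_mem _ α n1)
        (Submodule.smul_mem _ β n2))
      convert this using 1
      simp only [map_add, map_smul, ← hx, ← hy, add_mul, smul_mul_assoc, smul_add, smul_sub]
      module
    obtain ⟨hα, hβ⟩ := (LinearIndependent.pair_iff.1 hEli) _ _ (F.eq_zero_of_three h2)
    rw [neg_eq_zero.1 hα, hβ, zero_smul, zero_smul, zero_add, zero_add]
    refine Submodule.span_induction ?_ (by rw [zero_mul, map_zero]) (fun x y _ _ hx hy => ?_)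
      (fun c x _ hx => ?_) ht
    · rintro _ ⟨g', hg', h', hh', rfl⟩
      obtain ⟨d, hd⟩ := S.exists_comb hgen hg'
      exact F.tau_bracket (q := 3) (by omega) hσ4 hd hh'
    · rw [add_mul, map_add, hx, hy, add_zero]
    · rw [smul_mul_assoc, map_smul, hx, smul_zero]
  set z := comb e v0 * a ^ 3 with hz
  have hz4 : z ∈ S.J ^ 4 := S.mul_mem_pow (S.mem_one (S.comb_mem hmem v0)) (S.pow_mem ha 3)
  obtain ⟨b, hb, t, ht, hbt⟩ := Submodule.mem_sup.1 (hJ3 (S.pow_anti (by omega) (by omega) hz4))
  obtain ⟨γ, rfl⟩ := Submodule.mem_span_singleton.1 ht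
  have hb4 : b ∈ S.J ^ 4 := by
    have := Submodule.sub_mem _ hz4
      (Submodule.smul_mem _ γ (S.pow_anti (show 1 ≤ 4 by omega) (show 4 ≤ S.m by omega) hs))
    rwa [← hbt, add_sub_cancel_right] at this
  have hsz : s * a ^ (S.m - 4) = 0 :=
    S.eq_zero_of_lt (show S.m < S.m + (S.m - 4) by omega) (S.mul_mem_pow hs (S.pow_mem ha _))
  have h0 : S.τ (z * a ^ (S.m - 4)) = 0 := by
    rw [← hbt, add_mul, smul_mul_assoc, hsz, smul_zero, add_zero]
    exact hkill b hb hb4
  rwa [hz, mul_assoc, ← pow_add, show 3 + (S.m - 4) = S.m - 1 by omega] at h0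

end

end Ctx

end H18.Local5
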