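import Mathlib.LinearAlgebra.Eigenspace.Triangularizable
import Mathlib.LinearAlgebra.Dimension.Constructions
import Mathlib.LinearAlgebra.FiniteDimensional.Lemmas
import Mathlib.LinearAlgebra.Matrix.ToLinearEquiv

/-!
# Frobenius algebras of dimension two and three with an automorphism fixing only the scalars
-/

set_option autoImplicit false
set_option linter.unusedSectionVars false

namespace H18.Local5

universe u v

variable {k : Type u} [Field k] {V : Type v} [AddCommGroup V] [Module k V]

/-- An algebra with a form and an automorphism. -/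
structure Alg (k : Type u) [Field k] (V : Type v) [AddCommGroup V] [Module k V] where
  /-- the product -/
  mul : V →ₗ[k] V →ₗ[k] V
  /-- the unit -/
  one : V
  /-- the automorphism -/
  σ : V →ₗ[k] V
  /-- the form -/
  ε : V →ₗ[k] k
  assoc : ∀ x y z, mul (mul x y) z = mul x (mul y z)
  one_mul : ∀ x, mul one x = x
  mul_one : ∀ x, mul x one = x
  map_one : σ one = one
  map_mul : ∀ x y, σ (mul x y) = mul (σ x) (σ y)
  inj : ∀ x, σ x = 0 → x = 0
  fixed : ∀ x, σ x = x → x ∈ Submodule.span k {one}
  inv : ∀ x, ε (σ x) = ε x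
  nondeg : ∀ x, (∀ y, ε (mul x y) = 0) → x = 0

namespace Alg

variable (B : Alg k V)

theorem inj' : Function.Injective B.σ := fun x y h =>
  sub_eq_zero.1 (B.inj _ (by rw [map_sub, h, sub_self]))

theorem one_ne_zero [Nontrivial V] : B.one ≠ 0 := by
  intro h
  obtain ⟨x, hx⟩ := exists_ne (0 : V)
  exact hx (by rw [← B.one_mul x, h, map_zero, LinearMap.zero_apply])

/-- A nilpotent element is not a scalar. -/
theorem eq_zero_of_sq {v : V} (hv : v ∈ Submodule.span k {B.one}) (h : B.mul v v = 0) : v = 0 := by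
  obtain ⟨c, rfl⟩ := Submodule.mem_span_singleton.1 hv
  simp only [map_smul, LinearMap.smul_apply, B.one_mul, smul_smul] at h
  rcases smul_eq_zero.1 h with h0 | h0
  · rw [mul_self_eq_zero.1 h0, zero_smul]
  · rw [h0, smul_zero]

/-- An idempotent fixed by the automorphism is trivial. -/
theorem idem_fixed {e : V} (he : B.mul e e = e) (hσ : B.σ e = e) : e = 0 ∨ e = B.one := by
  obtain ⟨c, rfl⟩ := Submodule.mem_span_singleton.1 (B.fixed e hσ)
  simp only [map_smul, LinearMap.smul_apply, B.one_mul, smul_smul] at he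
  rcases eq_or_ne B.one 0 with h0 | h0
  · exact Or.inl (by rw [h0, smul_zero])
  have hc : c * c = c := smul_left_injective k h0 he
  rcases eq_or_ne c 0 with rfl | hc0
  · exact Or.inl (zero_smul _ _)
  · exact Or.inr (by rw [mul_eq_left₀ hc0 |>.1 hc, one_smul])

variable [IsAlgClosed k] [FiniteDimensional k V]

theorem exists_root (p q : k) : ∃ ρ : k, ρ ^ 2 - p * ρ - q = 0 := by
  obtain ⟨ρ, hρ⟩ := IsAlgClosed.exists_root
    (Polynomial.X ^ 2 - Polynomial.C p * Polynomial.X - Polynomial.C q) (by
      rw [show Polynomial.X ^ 2 - Polynomial.C p * Polynomial.X - Polynomial.C q =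
        Polynomial.C 1 * Polynomial.X ^ 2 + Polynomial.C (-p) * Polynomial.X +
          Polynomial.C (-q) by simp only [_root_.map_one, map_neg]; ring,
        Polynomial.degree_quadratic _root_.one_ne_zero]
      decide)
  exact ⟨ρ, by simpa using hρ⟩

/-- Dimension two: commutative, with an idempotent exchanged with its complement. -/
theorem dim_two (hV : Module.finrank k V = 2) :
    (∀ x y, B.mul x y = B.mul y x) ∧
      ∃ e, B.mul e e = e ∧ B.σ e = B.one - e ∧ LinearIndependent k ![e, B.one - e] := by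
  haveI : Nontrivial V := Module.nontrivial_of_finrank_eq_succ hV
  obtain ⟨u, hu⟩ := exists_linearIndependent_pair_of_one_lt_finrank
    (show 1 < Module.finrank k V by omega) B.one_ne_zero
  set C := basisOfLinearIndependentOfCardEqFinrank hu (by simp [hV]) with hC
  have hexp : ∀ z, ∃ a b : k, z = a • B.one + b • u := fun z =>
    ⟨C.repr z 0, C.repr z 1, by
      conv_lhs => rw [← C.sum_repr z]
      simp [hC, Fin.sum_univ_two]⟩
  have hcomm : ∀ x y, B.mul x y = B.mul y x := by
    intro x y
    obtain ⟨a, b, rfl⟩ := hexp x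
    obtain ⟨c, d, rfl⟩ := hexp y
    simp only [map_add, map_smul, LinearMap.add_apply, LinearMap.smul_apply, B.one_mul, B.mul_one]
    module
  refine ⟨hcomm, ?_⟩
  obtain ⟨q, p, hpq⟩ := hexp (B.mul u u)
  obtain ⟨ρ, hρ⟩ := exists_root p q
  -- shift to a root
  set v := u - ρ • B.one with hv
  have hvv : B.mul v v = (p - 2 * ρ) • v := by
    rw [hv]
    simp only [map_sub, map_smul, LinearMap.sub_apply, LinearMap.smul_apply, B.one_mul, B.mul_one,
      hpq]
    linear_combination (norm := module) congrArg (fun s : k => s • B.one) (neg_eq_zero.2 hρ)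
  have hvone : v ∉ Submodule.span k {B.one} := fun h => by
    obtain ⟨c, hc⟩ := Submodule.mem_span_singleton.1 h
    have h' := (LinearIndependent.pair_iff.1 hu) (-ρ - c) 1 (by rw [sub_smul, hc, hv]; module)
    exact _root_.one_ne_zero h'.2
  have hv0 : v ≠ 0 := fun h => hvone (h ▸ Submodule.zero_mem _)
  have hexp' : ∀ z, ∃ a b : k, z = a • B.one + b • v := fun z => by
    obtain ⟨a, b, rfl⟩ := hexp z
    exact ⟨a + b * ρ, b, by rw [hv]; module⟩
  have huniq : ∀ a b : k, a • B.one + b • v = 0 → a = 0 ∧ b = 0 := fun a b h => by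
    have hb : b = 0 := by
      by_contra hb
      refine hvone (Submodule.mem_span_singleton.2 ⟨-a / b, ?_⟩)
      have h2 := congrArg (fun z => b⁻¹ • z) h
      simp only [smul_add, smul_smul, inv_mul_cancel₀ hb, one_smul, smul_zero] at h2
      linear_combination (norm := module) -h2
    rw [hb, zero_smul, add_zero] at h
    exact ⟨(smul_eq_zero.1 h).resolve_right B.one_ne_zero, hb⟩
  obtain ⟨β, α, hσv⟩ := hexp' (B.σ v)
  have hsq := congrArg B.σ hvv
  rw [B.map_mul, map_smul, hσv] at hsq
  simp only [map_add, map_smul, LinearMap.add_apply, LinearMap.smul_apply, B.one_mul, B.mul_one,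
    hvv] at hsq
  obtain ⟨hc0, hc1⟩ := huniq (β * β - (p - 2 * ρ) * β)
    (2 * (α * β) + α * α * (p - 2 * ρ) - (p - 2 * ρ) * α) (by
      linear_combination (norm := module) hsq)
  have hα : α ≠ 0 := fun h0 => by
    rw [h0, zero_smul, add_zero] at hσv
    refine hvone (Submodule.mem_span_singleton.2 ⟨β, B.inj' ?_⟩)
    rw [map_smul, B.map_one, hσv]
  have hp : p - 2 * ρ ≠ 0 := by
    intro hp
    rw [hp, zero_smul] at hvv
    have hβ : β = 0 := mul_self_eq_zero.1 (by linear_combination hc0 + β * hp)
    rw [hβ, zero_smul, zero_add] at hσv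
    have hεv : B.ε v ≠ 0 := fun hε => hv0 (B.nondeg v fun y => by
      obtain ⟨a, b, rfl⟩ := hexp' y
      rw [map_add, map_smul, map_smul, B.mul_one, hvv, smul_zero, add_zero, map_smul, hε,
        smul_zero])
    have h := B.inv v
    rw [hσv, map_smul, smul_eq_mul] at h
    exact hvone (B.fixed v (by rw [hσv, (mul_eq_right₀ hεv).1 h, one_smul]))
  set e := (p - 2 * ρ)⁻¹ • v with he
  have hee : B.mul e e = e := by
    simp only [he, map_smul, LinearMap.smul_apply, hvv, smul_smul]
    congr 1
    field_simp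
  have hβ : β = p - 2 * ρ := by
    have h : β * (β - (p - 2 * ρ)) = 0 := by linear_combination hc0
    refine sub_eq_zero.1 ((mul_eq_zero.1 h).resolve_left fun hβ => ?_)
    have h1 : α * ((α - 1) * (p - 2 * ρ)) = 0 := by linear_combination hc1 - 2 * α * hβ
    rcases mul_eq_zero.1 ((mul_eq_zero.1 h1).resolve_left hα) with h2 | h2
    · exact hvone (B.fixed v (by rw [hσv, hβ, sub_eq_zero.1 h2]; module))
    · exact hp h2
  have hα1 : α = -1 := by
    have h1 : α * ((α + 1) * (p - 2 * ρ)) = 0 := by linear_combination hc1 - 2 * α * hβ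
    exact eq_neg_of_add_eq_zero_left
      ((mul_eq_zero.1 ((mul_eq_zero.1 h1).resolve_left hα)).resolve_right hp)
  refine ⟨e, hee, ?_, ?_⟩
  · rw [he, map_smul, hσv, hβ, hα1, smul_add, smul_smul, inv_mul_cancel₀ hp]
    module
  · rw [LinearIndependent.pair_iff]
    intro a b hab
    obtain ⟨h1, h2⟩ := huniq b ((a - b) * (p - 2 * ρ)⁻¹) (by rw [← hab, he]; module)
    rw [h1, sub_zero] at h2
    exact ⟨(mul_eq_zero.1 h2).resolve_right (inv_ne_zero hp), h1⟩

/-- Relations of a product of two quadratic elements. -/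
theorem pair {x y : V} (hi : LinearIndependent k ![B.one, x, y]) {a b α β γ : k}
    (hxx : B.mul x x = a • x) (hyy : B.mul y y = b • y)
    (hxy : B.mul x y = α • B.one + β • x + γ • y) :
    α = -(γ * β) ∧ γ * γ = a * γ ∧ β * β = b * β := by
  have hu : ∀ c₀ c₁ c₂ : k, c₀ • B.one + c₁ • x + c₂ • y = 0 → c₀ = 0 ∧ c₁ = 0 ∧ c₂ = 0 := by
    intro c₀ c₁ c₂ h
    have h' := Fintype.linearIndependent_iff.1 hi ![c₀, c₁, c₂] (by
      simp only [Fin.sum_univ_three, Matrix.cons_val_zero, Matrix.cons_val_one, Matrix.cons_val]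
      exact h)
    exact ⟨h' 0, h' 1, h' 2⟩
  have h1 := B.assoc x x y
  have h2 := B.assoc x y y
  simp only [hxx, hyy, hxy, map_add, map_smul, LinearMap.add_apply, LinearMap.smul_apply,
    B.one_mul, B.mul_one] at h1 h2
  obtain ⟨-, hx1, hy1⟩ := hu (a * α - γ * α) (a * β - α - β * a - γ * β) (a * γ - γ * γ) (by
    linear_combination (norm := module) h1)
  obtain ⟨-, -, hy2⟩ := hu (β * α - b * α) (β * β - b * β) (α + β * γ + γ * b - b * γ) (by
    linear_combination (norm := module) h2)
  obtain ⟨-, hx2, -⟩ := hu (β * α - b * α) (β * β - b * β) (α + β * γ + γ * b - b * γ) (by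
    linear_combination (norm := module) h2)
  exact ⟨by linear_combination -hx1, by linear_combination -hy1, by linear_combination hx2⟩

/-- Dimension three: commutative. -/
theorem comm_three (hV : Module.finrank k V = 3) : ∀ x y, B.mul x y = B.mul y x := by
  classical
  haveI : Nontrivial V := Module.nontrivial_of_finrank_eq_succ hV
  by_cases hmono : ∃ u, LinearIndependent k ![B.one, u, B.mul u u]
  · obtain ⟨u, hu⟩ := hmono
    set C := basisOfLinearIndependentOfCardEqFinrank hu (by simp [hV]) with hC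
    intro x y
    rw [← C.sum_repr x, ← C.sum_repr y]
    simp only [hC, coe_basisOfLinearIndependentOfCardEqFinrank, Fin.sum_univ_three,
      Matrix.cons_val_zero, Matrix.cons_val_one, Matrix.cons_val, map_add, map_smul,
      LinearMap.add_apply, LinearMap.smul_apply, B.one_mul, B.mul_one, ← B.assoc u u u]
    module
  push Not at hmono
  have hquad : ∀ u, u ∉ Submodule.span k {B.one} → ∃ q p : k, B.mul u u = q • B.one + p • u := by
    intro u hu
    by_contra hno
    push Not at hno
    apply hmono u
    rw [Fintype.linearIndependent_iff]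
    intro g hg
    simp only [Fin.sum_univ_three, Matrix.cons_val_zero, Matrix.cons_val_one, Matrix.cons_val] at hg
    have h2 : g 2 = 0 := by
      by_contra h2
      apply hno (-g 0 / g 2) (-g 1 / g 2)
      have h3 := congrArg (fun z => (g 2)⁻¹ • z) hg
      simp only [smul_add, smul_smul, inv_mul_cancel₀ h2, one_smul, smul_zero] at h3
      linear_combination (norm := module) h3
    rw [h2, zero_smul, add_zero] at hg
    have h1 : g 1 = 0 := by
      by_contra h1
      refine hu (Submodule.mem_span_singleton.2 ⟨-g 0 / g 1, ?_⟩)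
      have h3 := congrArg (fun z => (g 1)⁻¹ • z) hg
      simp only [smul_add, smul_smul, inv_mul_cancel₀ h1, one_smul, smul_zero] at h3
      linear_combination (norm := module) -h3
    rw [h1, zero_smul, add_zero] at hg
    intro i
    fin_cases i
    · exact (smul_eq_zero.1 hg).resolve_right B.one_ne_zero
    · exact h1
    · exact h2
  obtain ⟨x₀, hx₀⟩ := exists_linearIndependent_pair_of_one_lt_finrank
    (show 1 < Module.finrank k V by omega) B.one_ne_zero
  obtain ⟨z, hz⟩ := exists_linearIndependent_cons_of_lt_finrank hx₀ (by omega)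
  have hz3 : ∀ c₀ c₁ c₂ : k, c₀ • B.one + c₁ • x₀ + c₂ • z = 0 → c₀ = 0 ∧ c₁ = 0 ∧ c₂ = 0 := by
    intro c₀ c₁ c₂ h
    have h' := Fintype.linearIndependent_iff.1 hz ![c₂, c₀, c₁] (by
      simp [Fin.sum_univ_succ]
      linear_combination (norm := module) h)
    exact ⟨h' 1, h' 2, h' 0⟩
  have hnx : x₀ ∉ Submodule.span k {B.one} := fun h => by
    obtain ⟨c, hc⟩ := Submodule.mem_span_singleton.1 h
    have h' := hz3 c (-1) 0 (by rw [hc]; module)
    exact neg_ne_zero.2 _root_.one_ne_zero h'.2.1
  have hnz : z ∉ Submodule.span k {B.one} := fun h => by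
    obtain ⟨c, hc⟩ := Submodule.mem_span_singleton.1 h
    have h' := hz3 c 0 (-1) (by rw [hc]; module)
    exact neg_ne_zero.2 _root_.one_ne_zero h'.2.2
  obtain ⟨q₁, p₁, hx1⟩ := hquad x₀ hnx
  obtain ⟨q₂, p₂, hz1⟩ := hquad z hnz
  obtain ⟨ρ₁, hρ₁⟩ := exists_root p₁ q₁
  obtain ⟨ρ₂, hρ₂⟩ := exists_root p₂ q₂
  set x₁ := x₀ - ρ₁ • B.one with hx₁
  set y₁ := z - ρ₂ • B.one with hy₁
  have hxx₁ : B.mul x₁ x₁ = (p₁ - 2 * ρ₁) • x₁ := by
    rw [hx₁]
    simp only [map_sub, map_smul, LinearMap.sub_apply, LinearMap.smul_apply, B.one_mul, B.mul_one,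
      hx1]
    linear_combination (norm := module) congrArg (fun s : k => s • B.one) (neg_eq_zero.2 hρ₁)
  have hyy₁ : B.mul y₁ y₁ = (p₂ - 2 * ρ₂) • y₁ := by
    rw [hy₁]
    simp only [map_sub, map_smul, LinearMap.sub_apply, LinearMap.smul_apply, B.one_mul, B.mul_one,
      hz1]
    linear_combination (norm := module) congrArg (fun s : k => s • B.one) (neg_eq_zero.2 hρ₂)
  have hi₁ : LinearIndependent k ![B.one, x₁, y₁] := by
    rw [Fintype.linearIndependent_iff]
    intro g hg
    simp only [Fin.sum_univ_three, Matrix.cons_val_zero, Matrix.cons_val_one, Matrix.cons_val] at hg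
    obtain ⟨h0, h1, h2⟩ := hz3 (g 0 - g 1 * ρ₁ - g 2 * ρ₂) (g 1) (g 2) (by
      rw [← hg, hx₁, hy₁]; module)
    rw [h1, h2] at h0
    intro i
    fin_cases i
    · simpa using h0
    · exact h1
    · exact h2
  set C₁ := basisOfLinearIndependentOfCardEqFinrank hi₁ (by simp [hV]) with hC₁
  have hexp : ∀ w, ∃ α β γ : k, w = α • B.one + β • x₁ + γ • y₁ := fun w =>
    ⟨C₁.repr w 0, C₁.repr w 1, C₁.repr w 2, by
      conv_lhs => rw [← C₁.sum_repr w]
      simp [hC₁, Fin.sum_univ_three]⟩
  obtain ⟨α, β, γ, hxy⟩ := hexp (B.mul x₁ y₁)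
  obtain ⟨hα, hγ, hβ⟩ := B.pair hi₁ hxx₁ hyy₁ hxy
  -- translate so that the product vanishes
  set x := x₁ - γ • B.one with hx
  set y := y₁ - β • B.one with hy
  set a := p₁ - 2 * ρ₁ - 2 * γ with ha
  set b := p₂ - 2 * ρ₂ - 2 * β with hb
  have hxx : B.mul x x = a • x := by
    rw [hx, ha]
    simp only [map_sub, map_smul, LinearMap.sub_apply, LinearMap.smul_apply, B.one_mul, B.mul_one,
      hxx₁]
    linear_combination (norm := module) congrArg (fun s : k => s • B.one)
      (show (p₁ - 2 * ρ₁) * γ - γ * γ = 0 by linear_combination -hγ)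
  have hyy : B.mul y y = b • y := by
    rw [hy, hb]
    simp only [map_sub, map_smul, LinearMap.sub_apply, LinearMap.smul_apply, B.one_mul, B.mul_one,
      hyy₁]
    linear_combination (norm := module) congrArg (fun s : k => s • B.one)
      (show (p₂ - 2 * ρ₂) * β - β * β = 0 by linear_combination -hβ)
  have hxy0 : B.mul x y = 0 := by
    rw [hx, hy]
    simp only [map_sub, map_smul, LinearMap.sub_apply, LinearMap.smul_apply, B.one_mul, B.mul_one,
      hxy]
    linear_combination (norm := module) congrArg (fun s : k => s • B.one)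
      (show α + γ * β = 0 by linear_combination hα)
  have hi : LinearIndependent k ![B.one, x, y] := by
    rw [Fintype.linearIndependent_iff] at hi₁ ⊢
    intro g hg
    simp only [Fin.sum_univ_three, Matrix.cons_val_zero, Matrix.cons_val_one, Matrix.cons_val] at hg
    have h' := hi₁ ![g 0 - g 1 * γ - g 2 * β, g 1, g 2] (by
      simp only [Fin.sum_univ_three, Matrix.cons_val_zero, Matrix.cons_val_one, Matrix.cons_val]
      rw [← hg, hx, hy]; module)
    have h0 := h' 0
    have h1 : g 1 = 0 := h' 1
    have h2 : g 2 = 0 := h' 2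
    intro i
    fin_cases i
    · simpa [h1, h2] using h0
    · exact h1
    · exact h2
  have hi' : LinearIndependent k ![B.one, y, x] := by
    rw [Fintype.linearIndependent_iff] at hi ⊢
    intro g hg
    simp only [Fin.sum_univ_three, Matrix.cons_val_zero, Matrix.cons_val_one, Matrix.cons_val] at hg
    have h' := hi ![g 0, g 2, g 1] (by
      simp only [Fin.sum_univ_three, Matrix.cons_val_zero, Matrix.cons_val_one, Matrix.cons_val]
      linear_combination (norm := module) hg)
    intro i
    fin_cases i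
    · exact h' 0
    · exact h' 2
    · exact h' 1
  set C := basisOfLinearIndependentOfCardEqFinrank hi (by simp [hV]) with hC
  obtain ⟨α', β', γ', hyx⟩ : ∃ α' β' γ' : k,
      B.mul y x = α' • B.one + β' • y + γ' • x :=
    ⟨C.repr (B.mul y x) 0, C.repr (B.mul y x) 2, C.repr (B.mul y x) 1, by
      conv_lhs => rw [← C.sum_repr (B.mul y x)]
      simp only [hC, coe_basisOfLinearIndependentOfCardEqFinrank, Fin.sum_univ_three,
        Matrix.cons_val_zero, Matrix.cons_val_one, Matrix.cons_val]
      module⟩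
  obtain ⟨hα', hγ', hβ'⟩ := B.pair hi' hyy hxx hyx
  have hu : ∀ c₀ c₁ c₂ : k, c₀ • B.one + c₁ • x + c₂ • y = 0 → c₀ = 0 ∧ c₁ = 0 ∧ c₂ = 0 := by
    intro c₀ c₁ c₂ h
    have h' := Fintype.linearIndependent_iff.1 hi ![c₀, c₁, c₂] (by
      simp only [Fin.sum_univ_three, Matrix.cons_val_zero, Matrix.cons_val_one, Matrix.cons_val]
      exact h)
    exact ⟨h' 0, h' 1, h' 2⟩
  have h3 := B.assoc x y x
  have h4 := B.assoc y x y
  simp only [hxx, hyy, hxy0, hyx, map_zero, LinearMap.zero_apply, map_add, map_smul,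
    LinearMap.add_apply, LinearMap.smul_apply, B.one_mul, B.mul_one, smul_zero] at h3 h4
  obtain ⟨-, e1, -⟩ := hu 0 (α' + γ' * a) 0 (by linear_combination (norm := module) -h3)
  obtain ⟨-, -, e2⟩ := hu 0 0 (α' + β' * b) (by linear_combination (norm := module) h4)
  by_cases h0 : β' = 0 ∧ γ' = 0
  · obtain ⟨h01, h02⟩ := h0
    have hyx0 : B.mul y x = 0 := by rw [hyx, h01, h02, hα', h01, h02]; module
    intro u w
    rw [← C.sum_repr u, ← C.sum_repr w]
    simp only [hC, coe_basisOfLinearIndependentOfCardEqFinrank, Fin.sum_univ_three,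
      Matrix.cons_val_zero, Matrix.cons_val_one, Matrix.cons_val, map_add, map_smul,
      LinearMap.add_apply, LinearMap.smul_apply, B.one_mul, B.mul_one, hxy0, hyx0]
    module
  exfalso
  have ka : γ' * (a - β') = 0 := by linear_combination e1 - hα'
  have kb : β' * (b - γ') = 0 := by linear_combination e2 - hα'
  obtain ⟨hβa, hγb⟩ : β' = a ∧ γ' = b := by
    by_cases hb0 : β' = 0
    · have hg : γ' ≠ 0 := fun h => h0 ⟨hb0, h⟩
      refine ⟨(sub_eq_zero.1 ((mul_eq_zero.1 ka).resolve_left hg)).symm, ?_⟩
      exact mul_right_cancel₀ hg (by linear_combination hγ')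
    · refine ⟨mul_right_cancel₀ hb0 (by linear_combination hβ'), ?_⟩
      exact (sub_eq_zero.1 ((mul_eq_zero.1 kb).resolve_left hb0)).symm
  -- the form is degenerate
  set bas : Fin 3 → V := ![B.one, x, y] with hbas
  let Gm : Matrix (Fin 3) (Fin 3) k := fun i j => B.ε (B.mul (bas i) (bas j))
  have hdet : Gm.det = 0 := by
    rw [Matrix.det_fin_three]
    simp only [Gm, hbas, Matrix.cons_val_zero, Matrix.cons_val_one, Matrix.cons_val, B.one_mul,
      B.mul_one, hxx, hyy, hxy0, hyx, hα', hβa, hγb, map_zero, map_add, map_smul, smul_eq_mul]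
    ring
  obtain ⟨v, hv0, hv⟩ := Matrix.exists_vecMul_eq_zero_iff.2 hdet
  apply hv0
  have hzero : ∑ i, v i • bas i = 0 := by
    refine B.nondeg _ fun w => ?_
    rw [← C.sum_repr w]
    simp only [hC, coe_basisOfLinearIndependentOfCardEqFinrank, ← hbas, map_sum, map_smul]
    refine Finset.sum_eq_zero fun j _ => ?_
    have hj := congrFun hv j
    simp only [Matrix.vecMul, dotProduct, Gm, Pi.zero_apply] at hj
    rw [LinearMap.sum_apply, map_sum]
    simp only [LinearMap.smul_apply, map_smul, smul_eq_mul]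
    rw [hj, mul_zero]
  exact funext (Fintype.linearIndependent_iff.1 hi v hzero)

/-- A family of commuting multiplications has a common eigenvector. -/
theorem exists_common_eigen [Nontrivial V] (hcomm : ∀ x y, B.mul x y = B.mul y x) :
    ∃ v ≠ 0, ∀ b, ∃ c : k, B.mul b v = c • v := by
  classical
  let P : ℕ → Prop := fun n => ∃ I : Submodule k V, I ≠ ⊥ ∧
    (∀ b, ∀ u ∈ I, B.mul b u ∈ I) ∧ Module.finrank k I = n
  have hex : ∃ n, P n := ⟨_, ⊤, top_ne_bot, fun _ _ _ => Submodule.mem_top, rfl⟩
  obtain ⟨I, hI, hinv, hfin⟩ := Nat.find_spec hex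
  obtain ⟨v, hv, hv0⟩ := Submodule.exists_mem_ne_zero_of_ne_bot hI
  refine ⟨v, hv0, fun b => ?_⟩
  haveI : Nontrivial I := ⟨⟨⟨v, hv⟩, 0, fun h => hv0 (congrArg Subtype.val h)⟩⟩
  let f : Module.End k I := (B.mul b).restrict (hinv b)
  obtain ⟨c, hc⟩ := Module.End.exists_eigenvalue f
  refine ⟨c, ?_⟩
  set E : Submodule k V := I ⊓ LinearMap.ker (B.mul b - c • LinearMap.id) with hE
  have hker : ∀ u, u ∈ LinearMap.ker (B.mul b - c • LinearMap.id) ↔ B.mul b u = c • u := fun u => by
    rw [LinearMap.mem_ker, LinearMap.sub_apply, LinearMap.smul_apply, LinearMap.id_apply,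
      sub_eq_zero]
  have hEne : E ≠ ⊥ := by
    obtain ⟨w, hw⟩ := hc.exists_hasEigenvector
    intro hb
    have hmem : (w : V) ∈ E := ⟨w.2, (hker _).2 (congrArg Subtype.val hw.apply_eq_smul)⟩
    rw [hb, Submodule.mem_bot] at hmem
    exact hw.2 (Subtype.ext hmem)
  have hEinv : ∀ b', ∀ u ∈ E, B.mul b' u ∈ E := by
    rintro b' u ⟨hu, hu'⟩
    refine ⟨hinv b' u hu, (hker _).2 ?_⟩
    rw [← B.assoc, hcomm b b', B.assoc, (hker u).1 hu', map_smul]
  have hle : Nat.find hex ≤ Module.finrank k E := Nat.find_min' hex ⟨E, hEne, hEinv, rfl⟩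
  have hEI : E = I := Submodule.eq_of_le_of_finrank_le inf_le_left (by rw [hfin]; exact hle)
  rw [← hEI] at hv
  exact (hker v).1 hv.2

/-- Dimension three: the automorphism has order three. -/
theorem sigma_cube (hV : Module.finrank k V = 3) (x : V) : B.σ (B.σ (B.σ x)) = x := by
  classical
  haveI : Nontrivial V := Module.nontrivial_of_finrank_eq_succ hV
  have hcomm := B.comm_three hV
  have hsurj : Function.Surjective B.σ := LinearMap.injective_iff_surjective.1 B.inj'
  obtain ⟨v, hv0, hv⟩ := B.exists_common_eigen hcomm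
  have hline : ∀ {u : V}, (∀ b, ∃ c : k, B.mul b u = c • u) → ∀ b, ∃ c : k,
      B.mul b (B.σ u) = c • B.σ u := fun hu b => by
    obtain ⟨b', rfl⟩ := hsurj b
    obtain ⟨c, hc⟩ := hu b'
    exact ⟨c, by rw [← B.map_mul, hc, map_smul]⟩
  obtain ⟨c, hc⟩ := hv v
  by_cases hc0 : c = 0
  · -- a nilpotent line
    rw [hc0, zero_smul] at hc
    have hεv : B.ε v ≠ 0 := fun hε => hv0 (B.nondeg v fun y => by
      obtain ⟨d, hd⟩ := hv y
      rw [hcomm, hd, map_smul, hε, smul_zero])
    set w := B.σ v with hw
    have hww : B.mul w w = 0 := by rw [hw, ← B.map_mul, hc, map_zero]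
    by_cases hdep : ∃ t : k, w = t • v
    · obtain ⟨t, ht⟩ := hdep
      have h := B.inv v
      rw [← hw, ht, map_smul, smul_eq_mul] at h
      exact absurd (B.eq_zero_of_sq (B.fixed v (by rw [← hw, ht, (mul_eq_right₀ hεv).1 h,
        one_smul])) hc) hv0
    push Not at hdep
    have hw0 : w ≠ 0 := fun h => hv0 (B.inj v h)
    have hvw : LinearIndependent k ![v, w] :=
      (LinearIndependent.pair_iff' hv0).2 fun t ht => hdep t ht.symm
    have hvw0 : B.mul v w = 0 := by
      obtain ⟨d, hd⟩ := hline hv v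
      obtain ⟨d', hd'⟩ := hv w
      rw [hcomm] at hd'
      rw [← hw] at hd
      have := (LinearIndependent.pair_iff.1 hvw) d' (-d) (by
        rw [← hd', neg_smul, ← hd, add_neg_cancel])
      rw [hd', this.1, zero_smul]
    have hi : LinearIndependent k ![B.one, v, w] := by
      rw [Fintype.linearIndependent_iff]
      intro g hg
      simp only [Fin.sum_univ_three, Matrix.cons_val_zero, Matrix.cons_val_one, Matrix.cons_val]
        at hg
      have h0 : g 0 = 0 := by
        have h := congrArg (B.mul v) hg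
        simp only [map_add, map_smul, map_zero, B.mul_one, hc, hvw0, smul_zero, add_zero] at h
        exact (smul_eq_zero.1 h).resolve_right hv0
      rw [h0, zero_smul, zero_add] at hg
      obtain ⟨h1, h2⟩ := (LinearIndependent.pair_iff.1 hvw) _ _ hg
      intro i
      fin_cases i
      · exact h0
      · exact h1
      · exact h2
    set C := basisOfLinearIndependentOfCardEqFinrank hi (by simp [hV]) with hC
    have hz : v - w = 0 := by
      refine B.nondeg _ fun y => ?_
      have hεw : B.ε w = B.ε v := B.inv v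
      have hwv0 : B.mul w v = 0 := by rw [hcomm, hvw0]
      rw [← C.sum_repr y]
      simp only [hC, coe_basisOfLinearIndependentOfCardEqFinrank, Fin.sum_univ_three,
        Matrix.cons_val_zero, Matrix.cons_val_one, Matrix.cons_val, map_add, map_sub, map_smul,
        LinearMap.sub_apply, B.mul_one, hc, hww, hvw0, hwv0, hεw, sub_self, smul_zero, map_zero,
        add_zero]
    exact absurd (sub_eq_zero.1 hz) fun h => hdep 1 (by rw [one_smul]; exact h.symm)
  -- an idempotent line
  set e := c⁻¹ • v with he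
  have hee : B.mul e e = e := by
    simp only [he, map_smul, LinearMap.smul_apply, hc, smul_smul]
    congr 1
    field_simp
  have he0 : e ≠ 0 := smul_ne_zero (inv_ne_zero hc0) hv0
  have hel : ∀ b, ∃ d : k, B.mul b e = d • e := fun b => by
    obtain ⟨d, hd⟩ := hv b
    exact ⟨d, by rw [he, map_smul, hd, smul_comm]⟩
  set e' := B.σ e with he'
  set e'' := B.σ e' with he''
  set f := B.σ e'' with hf
  have h'l : ∀ b, ∃ d : k, B.mul b e' = d • e' := hline hel
  have h''l : ∀ b, ∃ d : k, B.mul b e'' = d • e'' := hline h'l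
  have hfl : ∀ b, ∃ d : k, B.mul b f = d • f := hline h''l
  have he'e : B.mul e' e' = e' := by rw [he', ← B.map_mul, hee]
  have he''e : B.mul e'' e'' = e'' := by rw [he'', ← B.map_mul, he'e]
  have hfe : B.mul f f = f := by rw [hf, ← B.map_mul, he''e]
  have he'0 : e' ≠ 0 := fun h => he0 (B.inj e h)
  have he''0 : e'' ≠ 0 := fun h => he'0 (B.inj e' h)
  have hf0 : f ≠ 0 := fun h => he''0 (B.inj e'' h)
  -- distinct idempotent lines are orthogonal
  have horth : ∀ {u w : V}, u ≠ 0 → w ≠ 0 → B.mul u u = u → B.mul w w = w →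
      (∀ b, ∃ d : k, B.mul b u = d • u) → (∀ b, ∃ d : k, B.mul b w = d • w) → u ≠ w →
      B.mul u w = 0 := by
    intro u w hu hw huu hww hul hwl hne
    obtain ⟨d, hd⟩ := hwl u
    obtain ⟨d', hd'⟩ := hul w
    rw [hcomm] at hd'
    by_contra h
    have hd0 : d ≠ 0 := fun h0 => h (by rw [hd, h0, zero_smul])
    have hwu : w = (d' / d) • u := by
      rw [div_eq_inv_mul, ← smul_smul, ← hd', hd, smul_smul, inv_mul_cancel₀ hd0, one_smul]
    have hdd0 : d' / d ≠ 0 := fun h0 => hw (by rw [hwu, h0, zero_smul])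
    have hsq := hww
    simp only [hwu, map_smul, LinearMap.smul_apply, huu, smul_smul] at hsq
    have h1 : d' / d = 1 :=
      mul_left_cancel₀ hdd0 ((smul_left_injective k hu hsq).trans (_root_.mul_one _).symm)
    exact hne (by rw [hwu, h1, one_smul])
  have hne1 : e ≠ e' := by
    intro h
    rcases B.idem_fixed hee h.symm with h0 | h0
    · exact he0 h0
    have htop : (⊤ : Submodule k V) ≤ Submodule.span k {B.one} := fun b _ => by
      obtain ⟨d, hd⟩ := hel b
      rw [h0, B.mul_one] at hd
      exact Submodule.mem_span_singleton.2 ⟨d, hd.symm⟩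
    have h1 := (Submodule.finrank_mono htop).trans (finrank_span_le_card (R := k) ({B.one} : Set V))
    rw [finrank_top, hV] at h1
    simp at h1
  have o1 := horth he0 he'0 hee he'e hel h'l hne1
  have hne2 : e'' ≠ e := by
    intro h
    have hsum : B.mul (e + e') (e + e') = e + e' := by
      simp only [map_add, LinearMap.add_apply, hee, he'e, o1, hcomm e' e, add_zero, zero_add]
    rcases B.idem_fixed hsum (by rw [map_add, ← he', ← he'', h, add_comm]) with h0 | h0
    · have := congrArg (B.mul e) h0
      rw [map_add, hee, o1, add_zero, map_zero] at this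
      exact he0 this
    · have htop : (⊤ : Submodule k V) ≤ Submodule.span k (({e, e'} : Finset V) : Set V) :=
        fun b _ => by
          obtain ⟨d, hd⟩ := hel b
          obtain ⟨d', hd'⟩ := h'l b
          rw [← B.mul_one b, ← h0, map_add, hd, hd']
          exact Submodule.add_mem _ (Submodule.smul_mem _ _ (Submodule.subset_span (by simp)))
            (Submodule.smul_mem _ _ (Submodule.subset_span (by simp)))
      have h1 := (Submodule.finrank_mono htop).trans (finrank_span_finset_le_card _)
      rw [finrank_top, hV] at h1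
      have h2 := Finset.card_le_two (a := e) (b := e')
      omega
  have o2 := horth he''0 he0 he''e hee h''l hel hne2
  have o3 := horth he'0 he''0 he'e he''e h'l h''l fun h => hne1 (B.inj' h)
  have o4 := horth he''0 hf0 he''e hfe h''l hfl fun h => hne1 (B.inj' (B.inj' h))
  have o5 := horth he'0 hf0 he'e hfe h'l hfl fun h => hne2 (B.inj' h).symm
  have hi : LinearIndependent k ![e, e', e''] := by
    rw [Fintype.linearIndependent_iff]
    intro g hg
    simp only [Fin.sum_univ_three, Matrix.cons_val_zero, Matrix.cons_val_one, Matrix.cons_val] at hg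
    intro i
    fin_cases i
    · have h := congrArg (B.mul e) hg
      simp only [map_add, map_smul, map_zero, hee, o1, hcomm e e'', o2, smul_zero, add_zero] at h
      exact (smul_eq_zero.1 h).resolve_right he0
    · have h := congrArg (B.mul e') hg
      simp only [map_add, map_smul, map_zero, he'e, hcomm e' e, o1, o3, smul_zero, add_zero,
        zero_add] at h
      exact (smul_eq_zero.1 h).resolve_right he'0
    · have h := congrArg (B.mul e'') hg
      simp only [map_add, map_smul, map_zero, he''e, o2, hcomm e'' e', o3, smul_zero,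
        zero_add] at h
      exact (smul_eq_zero.1 h).resolve_right he''0
  set C := basisOfLinearIndependentOfCardEqFinrank hi (by simp [hV]) with hC
  have hfe' : f = e := by
    obtain ⟨a₀, a₁, a₂, hfx⟩ : ∃ a₀ a₁ a₂ : k, f = a₀ • e + a₁ • e' + a₂ • e'' :=
      ⟨C.repr f 0, C.repr f 1, C.repr f 2, by
        conv_lhs => rw [← C.sum_repr f]
        simp [hC, Fin.sum_univ_three]⟩
    have h1 := congrArg (B.mul e') hfx
    simp only [map_add, map_smul, o5, he'e, hcomm e' e, o1, o3, smul_zero, add_zero,
      zero_add] at h1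
    have ha1 : a₁ = 0 := (smul_eq_zero.1 h1.symm).resolve_right he'0
    have h2 := congrArg (B.mul e'') hfx
    simp only [map_add, map_smul, o4, he''e, o2, hcomm e'' e', o3, smul_zero, zero_add] at h2
    have ha2 : a₂ = 0 := (smul_eq_zero.1 h2.symm).resolve_right he''0
    rw [ha1, ha2, zero_smul, zero_smul, add_zero, add_zero] at hfx
    have ha0 : a₀ ≠ 0 := fun h => hf0 (by rw [hfx, h, zero_smul])
    have h3 := hfe
    simp only [hfx, map_smul, LinearMap.smul_apply, hee, smul_smul] at h3
    rw [hfx, mul_left_cancel₀ ha0 ((smul_left_injective k he0 h3).trans (_root_.mul_one _).symm),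
      one_smul]
  conv_rhs => rw [← C.sum_repr x]
  conv_lhs => rw [← C.sum_repr x]
  simp only [hC, coe_basisOfLinearIndependentOfCardEqFinrank, Fin.sum_univ_three,
    Matrix.cons_val_zero, Matrix.cons_val_one, Matrix.cons_val, map_add, map_smul]
  rw [← he', ← he'', ← hf, hfe', ← he', ← he'']

end Alg

end H18.Local5
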