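import Cfsg.Agent.H18.Local5.Basic
import Cfsg.Agent.H18.Local5.SmallAlg

/-!
# A regular element turns the layers into a twisted polynomial ring over a small algebra
-/

set_option autoImplicit false
set_option linter.unusedSectionVars false

namespace H18.Local5

universe u v

variable {k : Type u} [Field k] {A : Type v} [Ring A] [Algebra k A]

/-- The combination of a family. -/
noncomputable def comb {r : ℕ} (e : Fin r → A) : (Fin r → k) →ₗ[k] A :=
  Fintype.linearCombination k e

theorem comb_apply {r : ℕ} (e : Fin r → A) (d : Fin r → k) : comb e d = ∑ i, d i • e i :=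
  Fintype.linearCombination_apply k e d

/-- Layers with a regular element in degree one. -/
structure Frame (S : Ctx k A) (r : ℕ) where
  /-- generators -/
  e : Fin (r + 1) → A
  /-- the regular element -/
  a : A
  hm : 4 ≤ S.m
  mem : ∀ i, e i ∈ S.J
  ind : S.Indep 1 e
  sp : S.Spans 1 e
  ha : a ∈ S.J
  reg : S.Reg a 1
  sp2 : ∃ w : Fin (r + 1) → A, S.Spans 2 w
  hbr : ∀ v : Fin (r + 1) → k, a * comb e v - comb e v * a ∈ S.N 2 →
    ∃ t : k, comb e v - t • a ∈ S.N 1

namespace Frame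

variable {S : Ctx k A} {r : ℕ} (F : Frame S r)

theorem comb_mem (d : Fin (r + 1) → k) : comb F.e d ∈ S.J := by
  rw [comb_apply]
  exact Submodule.sum_mem _ fun i _ => Submodule.smul_mem _ _ (F.mem i)

theorem comb_mem' (d : Fin (r + 1) → k) : comb F.e d ∈ S.J ^ 1 := S.mem_one (F.comb_mem d)

include F in
theorem indep_of {j : ℕ} (hj1 : 1 ≤ j) (hj : j + 1 ≤ S.m) {v : Fin (r + 1) → A}
    (hv : S.Spans j v) : S.Indep j v :=
  S.indep_of_spans hv fun w => S.not_spans_reg F.ind F.mem (Nat.lt_succ_self r) F.ha F.reg hj1 hj w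

/-- Multiplication by `a` on the right is injective below the top. -/
theorem right_inj {n : ℕ} (hn1 : 1 ≤ n) (hn : n + 2 ≤ S.m) {u : A} (hu : u ∈ S.J ^ n)
    (h : u * F.a ∈ S.N (n + 1)) : u ∈ S.N n := fun w hw => by
  rw [show S.m - n = S.m - (n + 1) + 1 by omega] at hw
  obtain ⟨_, ⟨w', hw', rfl⟩, z, hz, rfl⟩ :=
    Submodule.mem_sup.1 (S.reg_le F.reg (S.m - (n + 1)) (by omega) (by omega) hw)
  have hu' : u ∈ S.J ^ (S.m - (S.m - (n + 1) + 1)) := by
    rwa [show S.m - (S.m - (n + 1) + 1) = n by omega]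
  rw [LinearMap.mulLeft_apply, mul_add, map_add, (S.tau_N hz hu').2, add_zero, ← mul_assoc]
  exact h w' hw'

theorem indep_right : S.Indep 2 fun i => F.e i * F.a := by
  intro c hc
  refine F.ind c (F.right_inj le_rfl (by have := F.hm; omega) ?_ ?_)
  · rw [← comb_apply]; exact F.comb_mem' c
  · simpa [Finset.sum_mul, smul_mul_assoc] using hc

theorem spans_right : S.Spans 2 fun i => F.e i * F.a := by
  obtain ⟨w, hw⟩ := F.sp2
  have hwi := F.indep_of (j := 2) (by omega) (by have := F.hm; omega) hw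
  obtain ⟨c, hc0, -, hc⟩ := S.exists_coord hwi
  have hc' := hc hw
  let R : (Fin (r + 1) → k) →ₗ[k] (Fin (r + 1) → k) :=
    c.comp ((LinearMap.mulRight k F.a).comp (comb F.e))
  have hin : ∀ d, comb F.e d * F.a ∈ S.J ^ 2 := fun d => by
    rw [pow_two]; exact Submodule.mul_mem_mul (F.comb_mem d) F.ha
  have hinj : Function.Injective R := by
    rw [← LinearMap.ker_eq_bot, LinearMap.ker_eq_bot']
    intro d hd
    refine F.indep_right d ?_
    have h := hc' _ (hin d)
    have hd' : c (comb F.e d * F.a) = 0 := hd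
    rw [hd'] at h
    simpa [comb_apply, Finset.sum_mul, smul_mul_assoc] using h
  refine (S.spans_iff).2 fun z hz => ?_
  obtain ⟨d, hd⟩ := LinearMap.injective_iff_surjective.1 hinj (c z)
  have hd' : c (comb F.e d * F.a) = c z := hd
  refine ⟨d, ?_⟩
  have h := Submodule.sub_mem _ (hc' _ hz) (hc' _ (hin d))
  rw [hd', sub_sub_sub_cancel_right] at h
  simpa [comb_apply, Finset.sum_mul, smul_mul_assoc] using h

/-- Coordinates in degree one. -/
noncomputable def c₁ : A →ₗ[k] (Fin (r + 1) → k) := (S.exists_coord F.ind).choose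

theorem c₁_N {z : A} (hz : z ∈ S.N 1) : F.c₁ z = 0 := (S.exists_coord F.ind).choose_spec.1 z hz

theorem c₁_comb (d : Fin (r + 1) → k) : F.c₁ (comb F.e d) = d := by
  rw [comb_apply]
  exact (S.exists_coord F.ind).choose_spec.2.1 d

theorem c₁_spec {z : A} (hz : z ∈ S.J) : z - comb F.e (F.c₁ z) ∈ S.N 1 := by
  rw [comb_apply]
  exact (S.exists_coord F.ind).choose_spec.2.2 F.sp z (S.mem_one hz)

/-- Coordinates in degree two. -/
noncomputable def c₂ : A →ₗ[k] (Fin (r + 1) → k) := (S.exists_coord F.indep_right).choose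

theorem c₂_spec {z : A} (hz : z ∈ S.J ^ 2) : z - comb F.e (F.c₂ z) * F.a ∈ S.N 2 := by
  have h := (S.exists_coord F.indep_right).choose_spec.2.2 F.spans_right z hz
  simpa [comb_apply, Finset.sum_mul, smul_mul_assoc, c₂] using h

/-- `z` is `v a` in degree two. -/
def R₂ (z : A) (v : Fin (r + 1) → k) : Prop := z - comb F.e v * F.a ∈ S.N 2

/-- `z` is `v a a` in degree three. -/
def R₃ (z : A) (v : Fin (r + 1) → k) : Prop := z - comb F.e v * F.a * F.a ∈ S.N 3

theorem R₂_unique {z : A} {u v : Fin (r + 1) → k} (hu : F.R₂ z u) (hv : F.R₂ z v) : u = v := by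
  rw [← sub_eq_zero]
  refine F.indep_right _ ?_
  have h := Submodule.sub_mem _ hv hu
  rw [sub_sub_sub_cancel_left, ← sub_mul, ← map_sub] at h
  simpa [comb_apply, Finset.sum_mul, smul_mul_assoc] using h

theorem eq_zero_of_three {v : Fin (r + 1) → k} (h : comb F.e v * F.a * F.a ∈ S.N 3) : v = 0 := by
  refine F.indep_right v ?_
  have hin : comb F.e v * F.a ∈ S.J ^ 2 := S.mul_mem_pow (F.comb_mem' v) (S.mem_one F.ha)
  have := F.right_inj (n := 2) (by omega) (by have := F.hm; omega) hin h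
  simpa [comb_apply, Finset.sum_mul, smul_mul_assoc] using this

theorem R₃_unique {z : A} {u v : Fin (r + 1) → k} (hu : F.R₃ z u) (hv : F.R₃ z v) : u = v := by
  rw [← sub_eq_zero]
  refine F.eq_zero_of_three ?_
  have h := Submodule.sub_mem _ hv hu
  rwa [sub_sub_sub_cancel_left, ← sub_mul, ← sub_mul, ← map_sub] at h

/-- The twisting map. -/
noncomputable def sig : (Fin (r + 1) → k) →ₗ[k] (Fin (r + 1) → k) :=
  F.c₂.comp ((LinearMap.mulLeft k F.a).comp (comb F.e))

theorem R₂_sig (v : Fin (r + 1) → k) : F.R₂ (F.a * comb F.e v) (F.sig v) :=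
  F.c₂_spec (by rw [pow_two]; exact Submodule.mul_mem_mul F.ha (F.comb_mem v))

theorem R₂_prod (x y : Fin (r + 1) → k) :
    F.R₂ (comb F.e x * comb F.e y) (F.c₂ (comb F.e x * comb F.e y)) :=
  F.c₂_spec (by rw [pow_two]; exact Submodule.mul_mem_mul (F.comb_mem x) (F.comb_mem y))

theorem sig_inj : Function.Injective F.sig := by
  rw [← LinearMap.ker_eq_bot, LinearMap.ker_eq_bot']
  intro v hv
  have h := F.R₂_sig v
  rw [hv, R₂, map_zero, zero_mul, sub_zero] at h
  have hsp : S.Spans 2 fun i => F.a * F.e i :=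
    S.spans_succ F.ha (by have := F.hm; omega) F.reg F.sp
  refine F.indep_of (by omega) (by have := F.hm; omega) hsp v ?_
  simpa [comb_apply, Finset.mul_sum, mul_smul_comm] using h

/-- The twisting as an equivalence. -/
noncomputable def sigE : (Fin (r + 1) → k) ≃ₗ[k] (Fin (r + 1) → k) :=
  LinearEquiv.ofBijective F.sig
    ⟨F.sig_inj, LinearMap.injective_iff_surjective.1 F.sig_inj⟩

/-- The product. -/
noncomputable def mu : (Fin (r + 1) → k) →ₗ[k] (Fin (r + 1) → k) →ₗ[k] (Fin (r + 1) → k) :=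
  LinearMap.mk₂ k (fun x y => F.c₂ (comb F.e x * comb F.e (F.sigE.symm y)))
    (fun x x' y => by rw [map_add, add_mul, map_add])
    (fun c x y => by rw [map_smul, smul_mul_assoc, map_smul])
    (fun x y y' => by rw [map_add, map_add, mul_add, map_add])
    (fun c x y => by rw [map_smul, map_smul, mul_smul_comm, map_smul])

theorem R₂_mu (x y : Fin (r + 1) → k) : F.R₂ (comb F.e x * comb F.e y) (F.mu x (F.sig y)) := by
  have h : F.sigE.symm (F.sig y) = y := F.sigE.symm_apply_apply y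
  rw [mu, LinearMap.mk₂_apply, h]
  exact F.R₂_prod x y

theorem R₃_right {z : A} {u : Fin (r + 1) → k} (h : F.R₂ z u) (w : Fin (r + 1) → k) :
    F.R₃ (z * comb F.e w) (F.mu u (F.sig (F.sig w))) := by
  have hm := F.hm
  have h1 := S.N_mul (show 2 < S.m by omega) h (F.comb_mem w)
  have h2 := S.mul_N (show 2 < S.m by omega) (F.R₂_sig w) (F.comb_mem u)
  have h3 := S.N_mul (show 2 < S.m by omega) (F.R₂_mu u (F.sig w)) F.ha
  have := Submodule.add_mem _ (Submodule.add_mem _ h1 h2) h3
  show z * comb F.e w - _ ∈ S.N 3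
  convert this using 1
  noncomm_ring

theorem R₃_left {z : A} {u : Fin (r + 1) → k} (h : F.R₂ z u) (w : Fin (r + 1) → k) :
    F.R₃ (comb F.e w * z) (F.mu w (F.sig u)) := by
  have hm := F.hm
  have h1 := S.mul_N (show 2 < S.m by omega) h (F.comb_mem w)
  have h3 := S.N_mul (show 2 < S.m by omega) (F.R₂_mu w u) F.ha
  have := Submodule.add_mem _ h1 h3
  show comb F.e w * z - _ ∈ S.N 3
  convert this using 1
  noncomm_ring

theorem R₃_a {z : A} {u : Fin (r + 1) → k} (h : F.R₂ z u) : F.R₃ (F.a * z) (F.sig u) := by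
  have hm := F.hm
  have h1 := S.mul_N (show 2 < S.m by omega) h F.ha
  have h3 := S.N_mul (show 2 < S.m by omega) (F.R₂_sig u) F.ha
  have := Submodule.add_mem _ h1 h3
  show F.a * z - _ ∈ S.N 3
  convert this using 1
  noncomm_ring

/-- The unit. -/
noncomputable def one : Fin (r + 1) → k := F.c₁ F.a

theorem one_spec : F.a - comb F.e F.one ∈ S.N 1 := F.c₁_spec F.ha

theorem sig_one : F.sig F.one = F.one := by
  refine F.R₂_unique (F.R₂_sig _) ?_
  have hm := F.hm
  have h1 := S.mul_N (show 1 < S.m by omega) F.one_spec F.ha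
  have h2 := S.N_mul (show 1 < S.m by omega) F.one_spec F.ha
  have := Submodule.sub_mem _ h2 h1
  show F.a * comb F.e F.one - _ ∈ S.N 2
  convert this using 1
  noncomm_ring

theorem mu_one_left (y : Fin (r + 1) → k) : F.mu F.one y = y := by
  obtain ⟨y, rfl⟩ := LinearMap.injective_iff_surjective.1 F.sig_inj y
  refine F.R₂_unique (F.R₂_mu _ _) ?_
  have hm := F.hm
  have h1 := S.N_mul (show 1 < S.m by omega) F.one_spec (F.comb_mem y)
  have := Submodule.sub_mem _ (F.R₂_sig y) h1
  show comb F.e F.one * comb F.e y - _ ∈ S.N 2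
  convert this using 1
  noncomm_ring

theorem mu_one_right (x : Fin (r + 1) → k) : F.mu x F.one = x := by
  rw [← F.sig_one]
  refine F.R₂_unique (F.R₂_mu _ _) ?_
  have hm := F.hm
  have h1 := Submodule.neg_mem _ (S.mul_N (show 1 < S.m by omega) F.one_spec (F.comb_mem x))
  show comb F.e x * comb F.e F.one - _ ∈ S.N 2
  convert h1 using 1
  noncomm_ring

theorem sig_mu (x y : Fin (r + 1) → k) :
    F.sig (F.mu x y) = F.mu (F.sig x) (F.sig y) := by
  obtain ⟨y, rfl⟩ := LinearMap.injective_iff_surjective.1 F.sig_inj y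
  refine F.R₃_unique (F.R₃_a (F.R₂_mu x y)) ?_
  rw [← mul_assoc]
  exact F.R₃_right (F.R₂_sig x) y

theorem mu_assoc (x y z : Fin (r + 1) → k) : F.mu (F.mu x y) z = F.mu x (F.mu y z) := by
  obtain ⟨y, rfl⟩ := LinearMap.injective_iff_surjective.1 F.sig_inj y
  obtain ⟨z, rfl⟩ := LinearMap.injective_iff_surjective.1 F.sig_inj z
  obtain ⟨z, rfl⟩ := LinearMap.injective_iff_surjective.1 F.sig_inj z
  refine F.R₃_unique (F.R₃_right (F.R₂_mu x y) z) ?_
  rw [mul_assoc, ← F.sig_mu]
  exact F.R₃_left (F.R₂_mu y z) x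

/-- The form. -/
noncomputable def eps : (Fin (r + 1) → k) →ₗ[k] k :=
  S.τ.comp ((LinearMap.mulRight k (F.a ^ (S.m - 1))).comp (comb F.e))

theorem eps_apply (v : Fin (r + 1) → k) : F.eps v = S.τ (comb F.e v * F.a ^ (S.m - 1)) := rfl

theorem eps_of_R₂ {z : A} {u : Fin (r + 1) → k} (h : F.R₂ z u) :
    S.τ (z * F.a ^ (S.m - 2)) = F.eps u := by
  have hm := F.hm
  have h1 := h _ (S.pow_mem F.ha (S.m - 2))
  rw [sub_mul, map_sub, sub_eq_zero] at h1
  rw [h1, eps_apply, mul_assoc, ← pow_succ', show S.m - 2 + 1 = S.m - 1 by omega]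

theorem eps_sig (v : Fin (r + 1) → k) : F.eps (F.sig v) = F.eps v := by
  have hm := F.hm
  rw [← F.eps_of_R₂ (F.R₂_sig v), mul_assoc, S.trace, mul_assoc, ← pow_succ,
    show S.m - 2 + 1 = S.m - 1 by omega, eps_apply]

theorem spans_pow : ∀ j : ℕ, j + 2 ≤ S.m → S.Spans (j + 1) fun i => F.e i * F.a ^ j := by
  intro j
  induction j with
  | zero => intro _; simpa using F.sp
  | succ j ih =>
    intro hj
    show S.J ^ (j + 1 + 1) ≤ _
    rw [pow_succ']
    refine Submodule.mul_le.2 fun b hb z hz => ?_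
    obtain ⟨c, hc⟩ := (S.spans_iff).1 (ih (by omega)) z hz
    have hbc : b * ∑ i, c i • F.e i ∈ S.J ^ 2 := by
      rw [pow_two]
      exact Submodule.mul_mem_mul hb (Submodule.sum_mem _ fun i _ =>
        Submodule.smul_mem _ _ (F.mem i))
    obtain ⟨d, hd⟩ := (S.spans_iff).1 F.spans_right _ hbc
    have h1 := S.mul_N (show j + 1 < S.m by omega) hc hb
    have h2 := S.N_mul_pow (j := j) (show 2 + j ≤ S.m by omega) hd (S.pow_mem F.ha j)
    rw [show 2 + j = j + 1 + 1 by omega] at h2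
    have h3 : b * z = ∑ i, d i • (F.e i * F.a ^ (j + 1)) +
        (b * (z - ∑ i, c i • (F.e i * F.a ^ j)) +
          (b * ∑ i, c i • F.e i - ∑ i, d i • (F.e i * F.a)) * F.a ^ j) := by
      simp only [mul_sub, sub_mul, Finset.mul_sum, Finset.sum_mul, mul_smul_comm, smul_mul_assoc,
        mul_assoc, pow_succ']
      abel
    rw [h3]
    exact Submodule.add_mem_sup ((Submodule.mem_span_range_iff_exists_fun k).2 ⟨d, rfl⟩)
      (Submodule.add_mem _ h1 h2)

theorem eps_nondeg (x : Fin (r + 1) → k) (h : ∀ y, F.eps (F.mu x y) = 0) : x = 0 := by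
  have hm := F.hm
  refine F.ind x ?_
  rw [← comb_apply]
  intro w hw
  have hsp := F.spans_pow (S.m - 2) (by omega)
  rw [show S.m - 2 + 1 = S.m - 1 by omega] at hsp
  obtain ⟨c, hc⟩ := (S.spans_iff).1 hsp w hw
  have hx : comb F.e x ∈ S.J ^ (S.m - (S.m - 1)) := by
    rw [show S.m - (S.m - 1) = 1 by omega]
    exact F.comb_mem' x
  have h0 : comb F.e x * w = comb F.e x * comb F.e c * F.a ^ (S.m - 2) +
      comb F.e x * (w - ∑ i, c i • (F.e i * F.a ^ (S.m - 2))) := by
    simp only [comb_apply F.e c, mul_sub, Finset.mul_sum, Finset.sum_mul, mul_smul_comm,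
      smul_mul_assoc, mul_assoc]
    abel
  rw [h0, map_add, (S.tau_N hc hx).2, add_zero, F.eps_of_R₂ (F.R₂_mu x c), h]

/-- The algebra. -/
noncomputable def alg : Alg k (Fin (r + 1) → k) where
  mul := F.mu
  one := F.one
  σ := F.sig
  ε := F.eps
  assoc := F.mu_assoc
  one_mul := F.mu_one_left
  mul_one := F.mu_one_right
  map_one := F.sig_one
  map_mul := F.sig_mu
  inj := fun x hx => F.sig_inj (hx.trans (map_zero _).symm)
  fixed := fun x hx => by
    have h := F.R₂_sig x
    rw [hx] at h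
    obtain ⟨t, ht⟩ := F.hbr x h
    refine Submodule.mem_span_singleton.2 ⟨t, ?_⟩
    have h1 := F.c₁_N ht
    rw [map_sub, map_smul, F.c₁_comb, sub_eq_zero] at h1
    exact h1.symm
  inv := F.eps_sig
  nondeg := F.eps_nondeg

theorem pow_comm (x : Fin (r + 1) → k) : ∀ j : ℕ, j + 1 ≤ S.m →
    F.a ^ j * comb F.e x - comb F.e (F.sig^[j] x) * F.a ^ j ∈ S.N (j + 1) := by
  intro j
  induction j with
  | zero => intro _; simp
  | succ j ih =>
    intro hj
    have h1 := S.mul_N (show j + 1 < S.m by omega) (ih (by omega)) F.ha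
    have h2 := S.N_mul_pow (j := j) (show 2 + j ≤ S.m by omega) (F.R₂_sig (F.sig^[j] x))
      (S.pow_mem F.ha j)
    rw [show 2 + j = j + 1 + 1 by omega] at h2
    have := Submodule.add_mem _ h1 h2
    rw [Function.iterate_succ_apply']
    convert this using 1
    simp only [pow_succ', mul_sub, sub_mul, mul_assoc]
    abel

theorem twisted (x y : Fin (r + 1) → k) :
    F.eps (F.mu x (F.sig y)) = F.eps (F.mu y (F.sig^[S.m - 1] x)) := by
  have hm := F.hm
  rw [show S.m - 1 = S.m - 2 + 1 by omega, Function.iterate_succ_apply',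
    ← F.eps_of_R₂ (F.R₂_mu x y), ← F.eps_of_R₂ (F.R₂_mu y (F.sig^[S.m - 2] x))]
  rw [mul_assoc, S.trace, mul_assoc]
  have h := F.pow_comm x (S.m - 2) (by omega)
  have hy : comb F.e y ∈ S.J ^ (S.m - (S.m - 2 + 1)) := by
    rw [show S.m - (S.m - 2 + 1) = 1 by omega]
    exact F.comb_mem' y
  have h2 := (S.tau_N h hy).2
  rw [mul_sub, map_sub, sub_eq_zero] at h2
  rw [h2, mul_assoc]

/-- Commutativity makes the period divide the length. -/
theorem sig_pow_m (hcomm : ∀ x y, F.mu x y = F.mu y x) (x : Fin (r + 1) → k) :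
    F.sig^[S.m] x = x := by
  have hm := F.hm
  rw [← sub_eq_zero]
  refine F.eps_nondeg _ fun z => ?_
  obtain ⟨z, rfl⟩ := LinearMap.injective_iff_surjective.1 F.sig_inj z
  rw [map_sub, LinearMap.sub_apply, map_sub, sub_eq_zero, F.twisted x z]
  conv_rhs => rw [← F.eps_sig (F.mu z _), F.sig_mu]
  rw [hcomm, ← Function.iterate_succ_apply' F.sig, show (S.m - 1).succ = S.m by omega]

/-- Commutators with a high layer are killed by a central power. -/
theorem tau_bracket {j q : ℕ} (hjq : q + j + 1 = S.m) (hσ : ∀ v, F.sig^[j] v = v) {g h : A}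
    {v : Fin (r + 1) → k} (hg : g - comb F.e v ∈ S.J ^ 2) (hh : h ∈ S.J ^ q) :
    S.τ ((g * h - h * g) * F.a ^ j) = 0 := by
  have e1 : S.τ ((g * h - h * g) * F.a ^ j) = S.τ (h * (F.a ^ j * g - g * F.a ^ j)) := by
    simp only [sub_mul, mul_sub, map_sub]
    congr 1
    · rw [mul_assoc, S.trace, mul_assoc]
    · rw [mul_assoc]
  rw [e1]
  have hN : F.a ^ j * g - g * F.a ^ j ∈ S.N (j + 1) := by
    have h1 := F.pow_comm v j (by omega)
    rw [hσ] at h1
    have h2 := S.pow_le_N (show j + 1 < j + 2 by omega) (S.mul_mem_pow (S.pow_mem F.ha j) hg)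
    have h3 := S.pow_le_N (show j + 1 < 2 + j by omega) (S.mul_mem_pow hg (S.pow_mem F.ha j))
    have := Submodule.add_mem _ h1 (Submodule.sub_mem _ h2 h3)
    convert this using 1
    noncomm_ring
  have hh' : h ∈ S.J ^ (S.m - (j + 1)) := by rwa [show S.m - (j + 1) = q by omega]
  exact (S.tau_N hN hh').2

theorem exists_eps_ne : ∃ v, F.eps v ≠ 0 := by
  by_contra h
  push Not at h
  have hone : F.one ≠ 0 := F.alg.one_ne_zero
  exact hone (F.eps_nondeg _ fun y => by rw [F.mu_one_left]; exact h y)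

end Frame

end H18.Local5
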